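import Cfsg.Agent.H81.PJTab
import Cfsg.Agent.H62.PPIdx
import Cfsg.Agent.KFacts.RgdTau
import Cfsg.Agent.Nodes.NormalForm
import Cfsg.Agent.KFacts.RgdDiag
import Cfsg.Agent.H845.FD.Perm
import Cfsg.Agent.S0715
import Cfsg.Agent.H732.StInv
import Cfsg.Agent.S4456
import Cfsg.Agent.H672.Over
import Cfsg.Agent.H969.TT.TopAbs
import Mathlib.GroupTheory.Sylow
import Cfsg.Agent.H152.PS.Deg
import Cfsg.Agent.H117.ParIdx
import Cfsg.Agent.PermutationGroups.MultFree
import Cfsg.Agent.Characters.Core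
import Cfsg.Agent.Characters.Linear
import Cfsg.Agent.Blocks.Basic
import Cfsg.Prelude.Def_DegreeGraph
import Cfsg.Agent.H554.RGNo
import Mathlib
import Cfsg.Agent.H274.EP.Key
import Cfsg.Agent.Tits.ExtAux
import Cfsg.Agent.S0716
import Cfsg.Agent.LieRecognition.CoxForm
import Cfsg.Agent.LieRecognition.CoxClass
import Cfsg.Agent.H396.HasCG
import Cfsg.Agent.H979.LieSplit
import Cfsg.Agent.FastGrp
import Cfsg.Agent.Prune
set_option linter.all false

section
prune_inst 0x7ffdfef8bfa8fddedfff7e3fffdddffa31c6cfffe6dffb437fedebbfcfdf032339e56b851de050ffcfd7e29610387803fbffcfffec6bdc7ffffd5ff41ffbee0fb5e7b38851d48c341f3e2fff03f37fbe6f3ffffffffffffffffffffffffffffffffdfbfeffff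

-- part: H845/FD/RankTwo
section
prune_inst 0x1020004400000028800480001000000000000040000000000000000000000000000000000000000000000000008000000000000110000000000000000000000000000000000004010000
set_option linter.all false
open scoped Cfsg.Agent.FastGrp

-- part: H845/FD/Cox
section
/-!
# Root group data of type `B₂`, `G₂`: Coxeter group facts (helper845)
-/

set_option autoImplicit false
set_option linter.unusedSectionVars false

namespace Cfsg.Agent.H845.FD.Cox

open CoxeterSystem Cfsg.Agent.ChevalleyStructure.CoxeterGeom Cfsg.Agent.Tits.Roots Cfsg.Agent.Tits.Core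
  Cfsg.Agent.Tits.Exchange Cfsg.Agent.Nodes.Reps Cfsg.Agent.Nodes.BNOf Cfsg.Agent.Nodes.StabComb
  Cfsg.Agent.Nodes.Bruhat Cfsg.Agent.Nodes.OppDec Cfsg.Agent.Nodes.LeviDec

variable {W Y : Type*} [Group W] [Group Y] {M : CoxeterMatrix (Fin 2)}
  {cs : CoxeterSystem M W} {A : Fin 2 → Fin 2 → ℤ} {h : IsCartan M A} {p : ℕ} {T : Subgroup Y} {n : Fin 2 → Y}
  {X : (Fin 2 → ℤ) → Subgroup Y}

theorem cartan_cases (h : IsCartan M A) (hM : 4 ≤ M 0 1) :
    (M 0 1 = 4 ∧ ((A 0 1 = -1 ∧ A 1 0 = -2) ∨ (A 0 1 = -2 ∧ A 1 0 = -1))) ∨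
    (M 0 1 = 6 ∧ ((A 0 1 = -1 ∧ A 1 0 = -3) ∨ (A 0 1 = -3 ∧ A 1 0 = -1))) := by
  rcases h.rel 0 1 (by decide) with h1 | h1 | h1 | h1
  · omega
  · omega
  · exact Or.inl h1
  · exact Or.inr h1

theorem rep_zero_apply (cs : CoxeterSystem M W) (h : IsCartan M A) (x : Fin 2 → ℤ) :
    rep cs h (cs.simple 0) x = ![-x 0 - A 0 1 * x 1, x 1] := by
  have h0 := h.diag 0
  funext j
  rw [rep_simple_eq]
  unfold pairing
  rw [Fin.sum_univ_two, h0]
  fin_cases j
  · simp only [sr, _root_.Fin.isValue, _root_.zsmul_eq_mul, _root_.Int.cast_add, _root_.Int.cast_mul, _root_.Int.cast_ofNat, _root_.Fin.zero_eta, _root_.Pi.sub_apply, _root_.Pi.mul_apply, _root_.Pi.add_apply, _root_.Pi.ofNat_apply, _root_.Pi.intCast_apply, _root_.Int.cast_eq, _root_.Pi.single_eq_same, _root_.mul_one, _root_.Nat.succ_eq_add_one, _root_.Nat.reduceAdd, _root_.Matrix.cons_val_zero]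
    ring
  · simp only [sr, _root_.Fin.isValue, _root_.zsmul_eq_mul, _root_.Int.cast_add, _root_.Int.cast_mul, _root_.Int.cast_ofNat, _root_.Fin.mk_one, _root_.Pi.sub_apply, _root_.Pi.mul_apply, _root_.Pi.add_apply, _root_.Pi.ofNat_apply, _root_.Pi.intCast_apply, _root_.Int.cast_eq, _root_.ne_eq, _root_.one_ne_zero, _root_.not_false_eq_true, _root_.Pi.single_eq_of_ne, _root_.MulZeroClass.mul_zero, _root_.sub_zero, _root_.Nat.succ_eq_add_one, _root_.Nat.reduceAdd, _root_.Matrix.cons_val_one, _root_.Matrix.cons_val_fin_one]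

theorem rep_one_apply (cs : CoxeterSystem M W) (h : IsCartan M A) (x : Fin 2 → ℤ) :
    rep cs h (cs.simple 1) x = ![x 0, -x 1 - A 1 0 * x 0] := by
  have h1 := h.diag 1
  funext j
  rw [rep_simple_eq]
  unfold pairing
  rw [Fin.sum_univ_two, h1]
  fin_cases j
  · simp only [sr, _root_.Fin.isValue, _root_.zsmul_eq_mul, _root_.Int.cast_add, _root_.Int.cast_mul, _root_.Int.cast_ofNat, _root_.Fin.zero_eta, _root_.Pi.sub_apply, _root_.Pi.mul_apply, _root_.Pi.add_apply, _root_.Pi.intCast_apply, _root_.Int.cast_eq, _root_.Pi.ofNat_apply, _root_.ne_eq, _root_.zero_ne_one, _root_.not_false_eq_true, _root_.Pi.single_eq_of_ne, _root_.MulZeroClass.mul_zero, _root_.sub_zero, _root_.Nat.succ_eq_add_one, _root_.Nat.reduceAdd, _root_.Matrix.cons_val_zero]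
  · simp only [sr, _root_.Fin.isValue, _root_.zsmul_eq_mul, _root_.Int.cast_add, _root_.Int.cast_mul, _root_.Int.cast_ofNat, _root_.Fin.mk_one, _root_.Pi.sub_apply, _root_.Pi.mul_apply, _root_.Pi.add_apply, _root_.Pi.intCast_apply, _root_.Int.cast_eq, _root_.Pi.ofNat_apply, _root_.Pi.single_eq_same, _root_.mul_one, _root_.Nat.succ_eq_add_one, _root_.Nat.reduceAdd, _root_.Matrix.cons_val_one, _root_.Matrix.cons_val_fin_one]
    ring

/-- the rotation -/
def rot (cs : CoxeterSystem M W) : W := cs.simple 0 * cs.simple 1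

theorem rep_rot (cs : CoxeterSystem M W) (h : IsCartan M A) (x : Fin 2 → ℤ) :
    rep cs h (rot cs) x = ![(A 0 1 * A 1 0 - 1) * x 0 + A 0 1 * x 1, -A 1 0 * x 0 - x 1] := by
  unfold rot
  rw [rep_mul_apply, rep_one_apply, rep_zero_apply]
  funext j
  fin_cases j
  · simp
    ring
  · simp
    ring

theorem rot_pow (cs : CoxeterSystem M W) : rot cs ^ M 0 1 = 1 := cs.simple_mul_simple_pow 0 1

/-- half of the order -/
theorem exists_neg (cs : CoxeterSystem M W) (h : IsCartan M A) (hM : 4 ≤ M 0 1) :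
    ∃ k, M 0 1 = 2 * k ∧ k ≤ 3 ∧ 2 ≤ k ∧ ∀ x, rep cs h (rot cs ^ k) x = -x := by
  rcases cartan_cases h hM with ⟨h1, h2⟩ | ⟨h1, h2⟩
  · refine ⟨2, h1, by norm_num, le_rfl, fun x => ?_⟩
    have h3 : A 0 1 * A 1 0 = 2 := by rcases h2 with ⟨e1, e2⟩ | ⟨e1, e2⟩ <;> rw [e1, e2] <;> norm_num
    rw [pow_two, rep_mul_apply, rep_rot, rep_rot, h3]
    funext j
    fin_cases j
    · simp
      linear_combination (-x 0) * h3
    · simp
      linear_combination (-x 1) * h3
  · refine ⟨3, h1, le_rfl, by norm_num, fun x => ?_⟩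
    have h3 : A 0 1 * A 1 0 = 3 := by rcases h2 with ⟨e1, e2⟩ | ⟨e1, e2⟩ <;> rw [e1, e2] <;> norm_num
    rw [pow_succ, pow_two, rep_mul_apply, rep_mul_apply, rep_rot, rep_rot, rep_rot, h3]
    funext j
    fin_cases j
    · simp
      linear_combination (-3 * x 0 - A 0 1 * x 1) * h3
    · simp
      linear_combination (A 1 0 * x 0) * h3

theorem simple_rot (cs : CoxeterSystem M W) (k : ℕ) : cs.simple 0 * rot cs ^ k * cs.simple 0 = (rot cs ^ k)⁻¹ := by
  induction k with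
  | zero => simp
  | succ k ih =>
    have h1 : cs.simple 0 * rot cs * cs.simple 0 = (rot cs)⁻¹ := by
      unfold rot
      rw [mul_inv_rev, cs.inv_simple, cs.inv_simple, ← mul_assoc, cs.simple_mul_simple_self, one_mul]
    have h2 : cs.simple 0 * rot cs ^ (k + 1) * cs.simple 0 =
        (cs.simple 0 * rot cs ^ k * cs.simple 0) * (cs.simple 0 * rot cs * cs.simple 0) := by
      rw [pow_succ]
      have h3 : cs.simple 0 * rot cs ^ k * cs.simple 0 * (cs.simple 0 * rot cs * cs.simple 0) =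
          cs.simple 0 * rot cs ^ k * (cs.simple 0 * cs.simple 0) * rot cs * cs.simple 0 := by group
      rw [h3, cs.simple_mul_simple_self]
      group
    rw [h2, ih, h1, pow_succ', mul_inv_rev]

/-- The double cosets of `W_0 = ⟨s_0⟩`. -/
theorem exists_double (cs : CoxeterSystem M W) {k : ℕ} (hk : M 0 1 = 2 * k) (hk0 : 0 < k) (w : W) :
    ∃ j ≤ k, ∃ a ∈ WJ cs {0}, ∃ b ∈ WJ cs {0}, w = a * rot cs ^ j * b := by
  have hs0 : cs.simple 0 ∈ WJ cs {0} := simple_mem_WJ cs (Set.mem_singleton 0)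
  have hinv : ∀ j, (rot cs ^ j)⁻¹ = rot cs ^ ((2 * k - 1) * j) := by
    intro j
    have h1 := rot_pow cs
    rw [hk] at h1
    rw [inv_eq_iff_mul_eq_one, ← pow_add, show j + (2 * k - 1) * j = 2 * k * j by
      have : 2 * k = (2 * k - 1) + 1 := by omega
      conv_rhs => rw [this]
      ring, pow_mul, h1, one_pow]
  have h0 : ∀ j, cs.simple 0 * rot cs ^ j = rot cs ^ ((2 * k - 1) * j) * cs.simple 0 := by
    intro j
    rw [← hinv, ← simple_rot, mul_assoc (cs.simple 0 * rot cs ^ j), cs.simple_mul_simple_self, mul_one]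
  -- every element is `r ^ j` or `r ^ j s_0`
  have key : ∀ w : W, ∃ j, w = rot cs ^ j ∨ w = rot cs ^ j * cs.simple 0 := by
    intro w
    obtain ⟨ω, rfl⟩ := cs.wordProd_surjective w
    induction ω with
    | nil => exact ⟨0, Or.inl (by rw [wordProd_nil, pow_zero])⟩
    | cons i ω ih =>
      obtain ⟨j, hj⟩ := ih
      rw [wordProd_cons]
      have hi : i = 0 ∨ i = 1 := by (revert i; simp only [_root_.Fin.forall_fin_succ, Fin.isValue, _root_.zero_ne_one, _root_.or_false, _root_.Fin.succ_ne_zero, _root_.false_or, _root_.Fin.succ_zero_eq_one, _root_.IsEmpty.forall_iff, _root_.and_self])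
      rcases hi with rfl | rfl
      · refine ⟨(2 * k - 1) * j, ?_⟩
        rcases hj with hj | hj
        · right; rw [hj, h0]
        · left; rw [hj, ← mul_assoc, h0, mul_assoc, cs.simple_mul_simple_self, mul_one]
      · have e : cs.simple 1 = cs.simple 0 * rot cs := by
          unfold rot
          rw [← mul_assoc, cs.simple_mul_simple_self, one_mul]
        refine ⟨(2 * k - 1) * (j + 1), ?_⟩
        rcases hj with hj | hj
        · right; rw [hj, e, mul_assoc, ← pow_succ', h0]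
        · left; rw [hj, e, mul_assoc, ← mul_assoc (rot cs), ← pow_succ', ← mul_assoc, h0, mul_assoc,
            cs.simple_mul_simple_self, mul_one]
  obtain ⟨j, hj⟩ := key w
  obtain ⟨b, hb, hwb⟩ : ∃ b ∈ WJ cs {0}, w = rot cs ^ j * b := by
    rcases hj with hj | hj
    · exact ⟨1, one_mem _, by rw [hj, mul_one]⟩
    · exact ⟨_, hs0, hj⟩
  have hmod : rot cs ^ j = rot cs ^ (j % (2 * k)) := by
    have h1 := rot_pow cs
    rw [hk] at h1
    conv_lhs => rw [← Nat.div_add_mod j (2 * k), pow_add, pow_mul, h1, one_pow, one_mul]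
  have hlt : j % (2 * k) < 2 * k := Nat.mod_lt _ (by omega)
  by_cases hle : j % (2 * k) ≤ k
  · exact ⟨_, hle, 1, one_mem _, b, hb, by rw [one_mul, ← hmod, hwb]⟩
  · refine ⟨2 * k - j % (2 * k), by omega, cs.simple 0, hs0, cs.simple 0 * b, mul_mem hs0 hb, ?_⟩
    have h1 : rot cs ^ j = (rot cs ^ (2 * k - j % (2 * k)))⁻¹ := by
      rw [hmod, eq_inv_iff_mul_eq_one, ← pow_add, show j % (2 * k) + (2 * k - j % (2 * k)) = 2 * k by omega, ← hk,
        rot_pow]
    rw [hwb, h1, ← simple_rot]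
    group

end Cfsg.Agent.H845.FD.Cox
end

-- part: H845/FD/Card
section
/-!
# Root group data of type `B₂`, `G₂`: orders (helper845)
-/

set_option autoImplicit false
set_option linter.unusedSectionVars false

namespace Cfsg.Agent.H845.FD.Card

open CoxeterSystem Cfsg.Agent.ChevalleyStructure.CoxeterGeom Cfsg.Agent.Tits.Roots Cfsg.Agent.Tits.Core
  Cfsg.Agent.Tits.Exchange Cfsg.Agent.Nodes.Reps Cfsg.Agent.Nodes.BNOf Cfsg.Agent.Nodes.StabComb
  Cfsg.Agent.Nodes.Bruhat Cfsg.Agent.Nodes.OppDec Cfsg.Agent.Nodes.LeviDec Cfsg.Agent.Nodes.NormalForm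
  Cfsg.Agent.H845.FD.Cox

section gen

variable {I W Y : Type*} [Fintype I] [DecidableEq I] [Group W] [Group Y] {M : CoxeterMatrix I}
  {cs : CoxeterSystem M W} {A : I → I → ℤ} {h : IsCartan M A} {p : ℕ} {T : Subgroup Y} {n : I → Y}
  {X : (I → ℤ) → Subgroup Y} (R : RGD cs h p T n X)

include R

/-- `|U| = q_i |V_i|`. -/
theorem card_U_eq [Finite W] (i : I) : Nat.card ↥(RGD.Sup X (RGD.Pos cs h)) =
    Nat.card ↥(X (sr i)) * Nat.card ↥(VJ cs h X {i}) := by
  have h1 : UJ cs h X {i} = X (sr i) := KFacts.RgdDiag.UJ_singleton i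
  rw [← h1]
  refine Nodes.CardSup.card_mul_of_disjoint (UJ_le_U _) (VJ_le_U _) (fun g hg => (mem_U_iff R).1 hg) (UJ_inf_VJ R _)

theorem two_le_card [Finite W] [Finite Y] (i : I) : 2 ≤ Nat.card ↥(X (sr i)) := by
  obtain ⟨u, hu, hu1⟩ := exists_ne_one R i
  have : Nontrivial ↥(X (sr i)) := ⟨⟨⟨u, hu⟩, 1, fun h => hu1 (congrArg Subtype.val h)⟩⟩
  exact Finite.one_lt_card

/-- `U` is a Sylow subgroup. -/
theorem not_dvd_index [Finite W] [Finite Y] [hp : Fact p.Prime] (hG : GG cs h T X = ⊤) :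
    ¬ p ∣ (RGD.Sup X (RGD.Pos cs h)).index := by
  obtain ⟨S, hS⟩ := R.isPGroup_Upos.exists_le_sylow
  have h1 := eq_U_of_isPGroup R S.isPGroup' hS (by rw [hG]; exact le_top)
  rw [← h1]
  exact S.not_dvd_index

end gen

variable {W Y : Type*} [Group W] [Group Y] {M : CoxeterMatrix (Fin 2)}
  {cs : CoxeterSystem M W} {A : Fin 2 → Fin 2 → ℤ} {h : IsCartan M A} {p : ℕ} {T : Subgroup Y} {n : Fin 2 → Y}
  {X : (Fin 2 → ℤ) → Subgroup Y} (R : RGD cs h p T n X)

include R

/-- `|U| ≥ (q_0 q_1) ^ 2`. -/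
theorem le_card_U [Finite W] [Finite Y] (hM : 4 ≤ M 0 1) :
    (Nat.card ↥(X (sr 0)) * Nat.card ↥(X (sr 1))) ^ 2 ≤ Nat.card ↥(RGD.Sup X (RGD.Pos cs h)) := by
  classical
  have hfin : (RGD.Pos cs h).Finite := (RGD.finite_roots (cs := cs) (h := h)).subset fun _ hx => hx.1
  have h1 := Nodes.CardSup.card_sup R (s := hfin.toFinset) (by rw [Set.Finite.coe_toFinset])
    (by rw [Set.Finite.coe_toFinset]; exact Nodes.Unique.closed_pos)
  rw [Set.Finite.coe_toFinset] at h1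
  rw [h1]
  -- four roots
  have hA : A 0 1 < 0 ∧ A 1 0 < 0 ∧ (A 0 1 < -1 ∨ A 1 0 < -1) := by
    rcases cartan_cases h hM with ⟨-, ⟨e1, e2⟩ | ⟨e1, e2⟩⟩ | ⟨-, ⟨e1, e2⟩ | ⟨e1, e2⟩⟩ <;> rw [e1, e2] <;> norm_num
  obtain ⟨a0, a1, a2⟩ := hA
  obtain ⟨x, hx⟩ : ∃ x, x = rep cs h (cs.simple 0) (sr 1) := ⟨_, rfl⟩
  obtain ⟨y, hy⟩ : ∃ y, y = rep cs h (cs.simple 1) (sr 0) := ⟨_, rfl⟩
  have hx' : x = ![-A 0 1, 1] := by
    rw [hx, rep_zero_apply]
    funext j
    (revert j; simp [sr, _root_.Fin.forall_fin_succ])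
  have hy' : y = ![1, -A 1 0] := by
    rw [hy, rep_one_apply]
    funext j
    (revert j; simp [sr, _root_.Fin.forall_fin_succ])
  have e0 : (sr 0 : Fin 2 → ℤ) = ![1, 0] := by funext j; fin_cases j <;> simp [sr]
  have e1 : (sr 1 : Fin 2 → ℤ) = ![0, 1] := by funext j; fin_cases j <;> simp [sr]
  have cx : Nat.card ↥(X x) = Nat.card ↥(X (sr 1)) := by
    rw [hx]; exact Nodes.CardSup.card_X_rep R _ (isRoot_sr cs h 1)
  have cy : Nat.card ↥(X y) = Nat.card ↥(X (sr 0)) := by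
    rw [hy]; exact Nodes.CardSup.card_X_rep R _ (isRoot_sr cs h 0)
  have n01 : (sr 0 : Fin 2 → ℤ) ≠ sr 1 := by
    rw [e0, e1]; intro he; have := congrFun he 0; simp at this
  have n0x : (sr 0 : Fin 2 → ℤ) ≠ x := by
    rw [e0, hx']; intro he; have := congrFun he 1; simp at this
  have n0y : (sr 0 : Fin 2 → ℤ) ≠ y := by
    rw [e0, hy']; intro he; have := congrFun he 1; simp at this; omega
  have n1x : (sr 1 : Fin 2 → ℤ) ≠ x := by
    rw [e1, hx']; intro he; have := congrFun he 0; simp at this; omega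
  have n1y : (sr 1 : Fin 2 → ℤ) ≠ y := by
    rw [e1, hy']; intro he; have := congrFun he 0; simp at this
  have nxy : x ≠ y := by
    rw [hx', hy']; intro he; have h3 := congrFun he 0; have h4 := congrFun he 1; simp at h3 h4; omega
  have hsub : ({sr 0, sr 1, x, y} : Finset (Fin 2 → ℤ)) ⊆ hfin.toFinset := by
    intro z hz
    rw [Set.Finite.mem_toFinset]
    simp only [Finset.mem_insert, Finset.mem_singleton] at hz
    rcases hz with rfl | rfl | rfl | rfl
    · exact ⟨isRoot_sr cs h 0, sr_nonneg 0⟩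
    · exact ⟨isRoot_sr cs h 1, sr_nonneg 1⟩
    · refine ⟨hx ▸ (isRoot_sr cs h 1).act _, ?_⟩
      rw [hx']; intro j; (revert j; simp only [_root_.Fin.forall_fin_succ, _root_.Pi.zero_apply, _root_.Nat.succ_eq_add_one, Nat.reduceAdd, Fin.isValue, _root_.Matrix.cons_val_zero, _root_.Int.neg_nonneg, _root_.Matrix.cons_val_succ, _root_.Matrix.cons_val_fin_one, _root_.zero_le_one, _root_.implies_true, _root_.and_true, _root_.true_and]) <;> (repeat' with_reducible apply And.intro); omega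
    · refine ⟨hy ▸ (isRoot_sr cs h 0).act _, ?_⟩
      rw [hy']; intro j; (revert j; simp only [_root_.Fin.forall_fin_succ, _root_.Pi.zero_apply, _root_.Nat.succ_eq_add_one, Nat.reduceAdd, Fin.isValue, _root_.Matrix.cons_val_zero, _root_.zero_le_one, _root_.Matrix.cons_val_succ, _root_.Matrix.cons_val_fin_one, _root_.Int.neg_nonneg, _root_.forall_const, _root_.and_true, _root_.true_and]) <;> (repeat' with_reducible apply And.intro); omega
  refine le_trans (le_of_eq ?_) (Finset.prod_le_prod_of_subset_of_one_le' hsub fun z _ _ => Nat.card_pos)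
  rw [Finset.prod_insert, Finset.prod_insert, Finset.prod_insert, Finset.prod_singleton, cx, cy]
  · ring
  · simpa using nxy
  · simp only [Finset.mem_insert, Finset.mem_singleton, not_or]; exact ⟨n1x, n1y⟩
  · simp only [Finset.mem_insert, Finset.mem_singleton, not_or]; exact ⟨n01, n0x, n0y⟩

end Cfsg.Agent.H845.FD.Card
end

-- part: H845/FD/Sit
section
/-!
# A group acting on the cosets of a maximal parabolic subgroup of type `B₂`, `G₂` (helper845)

`Sit R φ H` : `φ : Y → Γ` injective with normal range, `H ∩ Y = P_0`, `Γ = Y H`, the elements of `H` act on the Bruhat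
cells of `Y` as type preserving automorphisms.
-/

set_option autoImplicit false
set_option linter.unusedSectionVars false

namespace Cfsg.Agent.H845.FD.SitDef

open CoxeterSystem Cfsg.Agent.ChevalleyStructure.CoxeterGeom Cfsg.Agent.Tits.Roots Cfsg.Agent.Tits.Core
  Cfsg.Agent.Tits.Exchange Cfsg.Agent.Nodes.Reps Cfsg.Agent.Nodes.BNOf Cfsg.Agent.Nodes.StabComb
  Cfsg.Agent.Nodes.Bruhat Cfsg.Agent.Nodes.OppDec Cfsg.Agent.Nodes.LeviDec Cfsg.Agent.Nodes.NormalForm
  Cfsg.Agent.H845.FD.Cox Cfsg.Agent.H845.FD.Card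

variable {W Y Γ : Type*} [Group W] [Group Y] [Group Γ] {M : CoxeterMatrix (Fin 2)}
  {cs : CoxeterSystem M W} {A : Fin 2 → Fin 2 → ℤ} {h : IsCartan M A} {p : ℕ} {T : Subgroup Y} {n : Fin 2 → Y}
  {X : (Fin 2 → ℤ) → Subgroup Y}

/-- the situation -/
structure Sit (R : RGD cs h p T n X) (φ : Y →* Γ) (H : Subgroup Γ) : Prop where
  inj : Function.Injective φ
  conj : ∀ (g : Γ) (y : Y), ∃ y', φ y' = g⁻¹ * φ y * g
  mem : ∀ y, φ y ∈ H ↔ y ∈ PJ cs h T X {0}
  dec : ∀ g : Γ, ∃ y : Y, ∃ x ∈ H, g = φ y * x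
  diag : ∀ x ∈ H, ∃ y ∈ PJ cs h T X {0}, ∀ w k, Rp cs R.nsys w k →
    ∃ k', Rp cs R.nsys w k' ∧ φ y * x * φ k = φ k' * (φ y * x)

/-- the base point -/
abbrev pt (H : Subgroup Γ) : Γ ⧸ H := ((1 : Γ) : Γ ⧸ H)

theorem smul_pt_eq_iff {H : Subgroup Γ} {g g' : Γ} : g • pt H = g' • pt H ↔ g⁻¹ * g' ∈ H := by
  rw [show g • pt H = ((g : Γ) : Γ ⧸ H) by rw [MulAction.Quotient.smul_mk, smul_eq_mul, mul_one],
    show g' • pt H = ((g' : Γ) : Γ ⧸ H) by rw [MulAction.Quotient.smul_mk, smul_eq_mul, mul_one], QuotientGroup.eq]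

variable {R : RGD cs h p T n X} {φ : Y →* Γ} {H : Subgroup Γ} (S : Sit R φ H)

include S

theorem Sit.smul_pt {y : Y} (hy : y ∈ PJ cs h T X {0}) : φ y • pt H = pt H := by
  have h1 := smul_pt_eq_iff (H := H) (g := φ y) (g' := 1)
  rw [one_smul] at h1
  rw [h1, mul_one]
  exact inv_mem ((S.mem y).2 hy)

/-- the orbits of `H` through points `φ k • pt` are orbits of `P_0` -/
theorem Sit.orbit_eq {w : W} {k : Y} (hk : Rp cs R.nsys w k) :
    MulAction.orbit (MulAction.stabilizer Γ (pt H)) (φ k • pt H) =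
      {b | ∃ y ∈ PJ cs h T X {0}, b = φ y • φ k • pt H} := by
  ext b
  constructor
  · rintro ⟨⟨x, hx⟩, rfl⟩
    have hxH : x ∈ H := by rwa [MulAction.stabilizer_quotient] at hx
    obtain ⟨y, hy, hyd⟩ := S.diag x hxH
    obtain ⟨k', hk', e⟩ := hyd w k hk
    refine ⟨y⁻¹, inv_mem hy, ?_⟩
    change x • φ k • pt H = _
    have h1 : x * φ k = φ y⁻¹ * φ k' * (φ y * x) := by
      rw [mul_assoc, ← e, map_inv]
      group
    have h2 : (φ y * x) • pt H = pt H := by
      rw [mul_smul]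
      have h3 : x • pt H = pt H := hx
      rw [h3, S.smul_pt hy]
    have h4 : φ k' • pt H = φ k • pt H := by
      have h5 : k' = k * (k⁻¹ * k') := by group
      rw [h5, map_mul, mul_smul, S.smul_pt (B_le_PJ (RGD.T_le_B (hk.unique hk')))]
    rw [← mul_smul, h1, mul_smul, h2, mul_smul, h4]
  · rintro ⟨y, hy, rfl⟩
    exact ⟨⟨φ y, by rw [MulAction.stabilizer_quotient]; exact (S.mem y).2 hy⟩, rfl⟩

theorem Sit.exists_rep (b : Γ ⧸ H) : ∃ y : Y, b = φ y • pt H := by
  obtain ⟨g, rfl⟩ := QuotientGroup.mk_surjective b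
  obtain ⟨y, x, hx, rfl⟩ := S.dec g
  refine ⟨y, ?_⟩
  have h1 : ((φ y * x : Γ) : Γ ⧸ H) = (φ y * x) • pt H := by
    rw [MulAction.Quotient.smul_mk, smul_eq_mul, mul_one]
  rw [h1, smul_pt_eq_iff]
  have h2 : (φ y * x)⁻¹ * φ y = x⁻¹ := by group
  rw [h2]
  exact inv_mem hx

/-- `|Ω| = |Y : P_0|` -/
theorem Sit.card_eq : Nat.card (Γ ⧸ H) = (PJ cs h T X {0}).index := by
  unfold Subgroup.index
  symm
  refine Nat.card_congr (Equiv.ofBijective
    (Quotient.lift (fun y : Y => φ y • pt H) fun a b hab => ?_) ⟨?_, ?_⟩)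
  · rw [smul_pt_eq_iff, ← map_inv, ← map_mul, S.mem]
    exact QuotientGroup.leftRel_apply.1 hab
  · intro a b
    induction a using QuotientGroup.induction_on with
    | H a =>
      induction b using QuotientGroup.induction_on with
      | H b =>
        intro hab
        rw [QuotientGroup.eq]
        have h1 : φ a • pt H = φ b • pt H := hab
        rwa [smul_pt_eq_iff, ← map_inv, ← map_mul, S.mem] at h1
  · intro b
    obtain ⟨y, hy⟩ := S.exists_rep b
    exact ⟨(y : Y ⧸ PJ cs h T X {0}), hy.symm⟩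

/-! ### The suborbit of `n_1` -/

omit S in
theorem conj_VJ_one [Finite W] (R : RGD cs h p T n X) {v : Y} (hv : v ∈ VJ cs h X {1}) :
    (n 1)⁻¹ * v * n 1 ∈ VJ cs h X {1} := by
  refine conj_mem_Sup' R (rp_simple cs R.nsys 1) (fun x hx => hx.1) (fun x hx => ?_) hv
  refine NotJ.act ?_ hx
  rw [cs.inv_simple]
  exact simple_mem_WJ cs (Set.mem_singleton 1)

theorem Sit.card_orbit_one [Finite W] [Finite Y] [Finite Γ] :
    Nat.card (MulAction.orbit (MulAction.stabilizer Γ (pt H)) (φ (n 1) • pt H)) ∣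
      (RGD.Sup X (RGD.Pos cs h)).relIndex (PJ cs h T X {0}) * Nat.card ↥(X (sr 1)) := by
  rw [S.orbit_eq (rp_simple cs R.nsys 1)]
  let _ : MulAction ↥(PJ cs h T X {0}) (Γ ⧸ H) := MulAction.compHom _ (φ.comp (PJ cs h T X {0}).subtype)
  have h1 : {b | ∃ y ∈ PJ cs h T X {0}, b = φ y • φ (n 1) • pt H} =
      MulAction.orbit ↥(PJ cs h T X {0}) (φ (n 1) • pt H) := by
    ext b
    constructor
    · rintro ⟨y, hy, rfl⟩
      exact ⟨⟨y, hy⟩, rfl⟩
    · rintro ⟨⟨y, hy⟩, rfl⟩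
      exact ⟨y, hy, rfl⟩
  rw [h1, Nat.card_coe_set_eq, ← MulAction.index_stabilizer]
  have hU : RGD.Sup X (RGD.Pos cs h) ≤ PJ cs h T X {0} := RGD.U_le_B.trans B_le_PJ
  have hle : (VJ cs h X {1}).subgroupOf (PJ cs h T X {0}) ≤
      MulAction.stabilizer ↥(PJ cs h T X {0}) (φ (n 1) • pt H) := by
    rintro ⟨v, hvP⟩ hv
    have hv' : v ∈ VJ cs h X {1} := hv
    change φ v • φ (n 1) • pt H = φ (n 1) • pt H
    have h2 := conj_VJ_one R hv'
    have h3 : φ v * φ (n 1) = φ (n 1) * φ ((n 1)⁻¹ * v * n 1) := by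
      rw [← map_mul, ← map_mul]
      congr 1
      group
    rw [← mul_smul, h3, mul_smul, S.smul_pt (hU (VJ_le_U _ h2))]
  have h2 := Subgroup.index_dvd_of_le hle
  refine h2.trans (dvd_of_eq ?_)
  change (VJ cs h X {1}).relIndex (PJ cs h T X {0}) = _
  rw [← Subgroup.relIndex_mul_relIndex _ _ _ (VJ_le_U (cs := cs) (h := h) (X := X) {1}) hU, mul_comm]
  congr 1
  have h3 := Subgroup.card_mul_index ((VJ cs h X {1}).subgroupOf (RGD.Sup X (RGD.Pos cs h)))
  have h4 : Nat.card ↥((VJ cs h X {1}).subgroupOf (RGD.Sup X (RGD.Pos cs h))) = Nat.card ↥(VJ cs h X {1}) :=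
    Nat.card_congr (Subgroup.subgroupOfEquivOfLe (VJ_le_U _)).toEquiv
  rw [h4, card_U_eq R 1, mul_comm] at h3
  exact Nat.eq_of_mul_eq_mul_right Nat.card_pos h3

/-! ### The opposite suborbit -/

theorem Sit.card_orbit_opp [Finite W] [Finite Y] [Finite Γ] {w : W} (hw : ∀ x, rep cs h w x = -x) {k : Y}
    (hk : Rp cs R.nsys w k) :
    Nat.card (MulAction.orbit (MulAction.stabilizer Γ (pt H)) (φ k • pt H)) = Nat.card ↥(VJ cs h X {0}) := by
  have hw' : ∀ x, rep cs h w⁻¹ x = -x := by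
    intro x
    have h1 := rep_inv_apply cs h w (-x)
    rw [hw, neg_neg] at h1
    exact h1
  rw [S.orbit_eq hk]
  have hU : RGD.Sup X (RGD.Pos cs h) ≤ PJ cs h T X {0} := RGD.U_le_B.trans B_le_PJ
  have hL : ∀ l ∈ LJ cs h T X {0}, k⁻¹ * l * k ∈ LJ cs h T X {0} := by
    intro l hl
    have h1 : cj k⁻¹ (LJ cs h T X {0}) ≤ LJ cs h T X {0} := by
      unfold LJ
      rw [cj_sup, cj_T R hk.inv]
      refine sup_le_sup_left (cj_Sup_le R hk.inv (fun x hx => hx.1) fun x hx => ?_) _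
      rw [hw']
      exact RootsJ.neg hx
    have h2 : k⁻¹ * l * k⁻¹⁻¹ ∈ cj k⁻¹ (LJ cs h T X {0}) := conj_mem_cj.2 hl
    rw [inv_inv] at h2
    exact h1 h2
  let f : ↥(VJ cs h X {0}) → {b | ∃ y ∈ PJ cs h T X {0}, b = φ y • φ k • pt H} := fun v =>
    ⟨φ v • φ k • pt H, v, hU (VJ_le_U _ v.2), rfl⟩
  symm
  refine Nat.card_congr (Equiv.ofBijective f ⟨?_, ?_⟩)
  · intro a b hab
    have h1 : φ a • φ k • pt H = φ b • φ k • pt H := congrArg Subtype.val hab
    rw [← mul_smul, ← mul_smul, smul_pt_eq_iff, ← map_mul, ← map_mul, ← map_inv, ← map_mul, S.mem] at h1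
    have h2 : ((a : Y) * k)⁻¹ * ((b : Y) * k) = k⁻¹ * ((a : Y)⁻¹ * b) * k := by group
    rw [h2] at h1
    have h3 : k⁻¹ * ((a : Y)⁻¹ * b) * k ∈ VNJ cs h X {0} := by
      refine conj_mem_Sup' R hk (fun x hx => hx.1) (fun x hx => ?_) (mul_mem (inv_mem a.2) b.2)
      rw [hw']
      change - -x ∈ NotJ cs h {0}
      rw [neg_neg]
      exact hx
    have h4 := eq_one_of_mem_VNJ_of_mem_PJ R h3 h1
    have h5 : (a : Y)⁻¹ * b = 1 := by
      have e : (a : Y)⁻¹ * b = k * (k⁻¹ * ((a : Y)⁻¹ * b) * k) * k⁻¹ := by group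
      rw [e, h4]; group
    exact Subtype.ext (inv_mul_eq_one.1 h5)
  · rintro ⟨b, y, hy, rfl⟩
    obtain ⟨l, hl, v, hv, rfl⟩ := (mem_PJ R).1 hy
    have h1 := mem_normalizer_iff_cj.1 (LJ_le_normalizer_VJ R {0} hl)
    have h2 : l * v * l⁻¹ ∈ VJ cs h X {0} := by
      have : l * v * l⁻¹ ∈ cj l (VJ cs h X {0}) := conj_mem_cj.2 hv
      rwa [h1] at this
    refine ⟨⟨l * v * l⁻¹, h2⟩, Subtype.ext ?_⟩
    change φ (l * v * l⁻¹) • φ k • pt H = φ (l * v) • φ k • pt H
    have h3 : l * v = (l * v * l⁻¹) * l := by group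
    have h4 : l * k = k * (k⁻¹ * l * k) := by group
    have h5 : φ l • φ k • pt H = φ k • pt H := by
      rw [← mul_smul, ← map_mul, h4, map_mul, mul_smul, S.smul_pt (LJ_le_PJ (hL l hl))]
    have h6 : φ (l * v) = φ (l * v * l⁻¹) * φ l := by rw [← map_mul, inv_mul_cancel_right]
    rw [h6, mul_smul, h5]

/-! ### The rank -/

theorem Sit.rank_le [Finite W] [Finite Γ] (hG : GG cs h T X = ⊤) {k : ℕ} (hk : M 0 1 = 2 * k) (hk0 : 0 < k) :
    Nat.card (MulAction.orbitRel.Quotient (MulAction.stabilizer Γ (pt H)) (Γ ⧸ H)) ≤ k + 1 := by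
  have hex : ∀ w : W, ∃ g, Rp cs R.nsys w g := fun w => exists_rp cs R.nsys w
  choose κ hκ using hex
  let f : Fin (k + 1) → MulAction.orbitRel.Quotient (MulAction.stabilizer Γ (pt H)) (Γ ⧸ H) := fun j =>
    Quotient.mk'' (φ (κ (rot cs ^ (j : ℕ))) • pt H)
  have hf : Function.Surjective f := by
    intro q
    induction q using Quotient.inductionOn' with
    | h b =>
      obtain ⟨y, rfl⟩ := S.exists_rep b
      obtain ⟨w, b₁, hb₁, g, hg, b₂, hb₂, rfl⟩ := (mem_GG R).1 (hG ▸ Subgroup.mem_top y)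
      obtain ⟨j, hj, a, ha, b, hb, hw⟩ := exists_double cs hk hk0 w
      refine ⟨⟨j, by omega⟩, ?_⟩
      obtain ⟨α, hα⟩ := exists_rp cs R.nsys a
      obtain ⟨β, hβ⟩ := exists_rp cs R.nsys b
      have h1 := (hα.mul (hκ (rot cs ^ j))).mul hβ
      rw [← hw] at h1
      have h2 := h1.unique hg
      have hαP : α ∈ PJ cs h T X {0} := LJ_le_PJ (rp_mem_LJ R ha hα)
      have hβP : β ∈ PJ cs h T X {0} := LJ_le_PJ (rp_mem_LJ R hb hβ)
      have hgg : b₁ * g * b₂ = (b₁ * α) * κ (rot cs ^ j) * (β * ((α * κ (rot cs ^ j) * β)⁻¹ * g) * b₂) := by group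
      have h3 : β * ((α * κ (rot cs ^ j) * β)⁻¹ * g) * b₂ ∈ PJ cs h T X {0} :=
        mul_mem (mul_mem hβP (B_le_PJ (RGD.T_le_B h2))) (B_le_PJ hb₂)
      have h4 : φ (b₁ * g * b₂) • pt H = φ (b₁ * α) • φ (κ (rot cs ^ j)) • pt H := by
        rw [hgg, map_mul, mul_smul, S.smul_pt h3, map_mul, mul_smul]
      rw [h4]
      apply Quotient.sound'
      rw [MulAction.orbitRel_apply]
      refine ⟨⟨φ (b₁ * α)⁻¹, ?_⟩, ?_⟩
      · rw [MulAction.stabilizer_quotient]
        exact (S.mem _).2 (inv_mem (mul_mem (B_le_PJ hb₁) hαP))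
      · change φ (b₁ * α)⁻¹ • φ (b₁ * α) • φ (κ (rot cs ^ j)) • pt H = _
        rw [← mul_smul, ← map_mul, inv_mul_cancel, map_one, one_smul]
  have h1 := Nat.card_le_card_of_surjective f hf
  rwa [Nat.card_fin] at h1

end Cfsg.Agent.H845.FD.SitDef
end

-- part: H845/FD/Setup
section
/-!
# The type preserving subgroup of index at most two (helper845)

`N` normal in the finite group `G` with root group data of rank 2, `K0` : the elements normalising `U` and `P_0`,
`Gm = N K0` has index 1 or 2 (and then `|X_0| = |X_1|`), `Hm = P_0 K0`, and `Sit` holds for `N ≤ Gm`, `Hm`.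
-/

set_option autoImplicit false
set_option linter.unusedSectionVars false

namespace Cfsg.Agent.H845.FD.Setup

open CoxeterSystem Cfsg.Agent.ChevalleyStructure.CoxeterGeom Cfsg.Agent.Tits.Roots Cfsg.Agent.Tits.Core
  Cfsg.Agent.Tits.Exchange Cfsg.Agent.Nodes.Reps Cfsg.Agent.Nodes.BNOf Cfsg.Agent.Nodes.StabComb
  Cfsg.Agent.Nodes.Bruhat Cfsg.Agent.Nodes.OppDec Cfsg.Agent.Nodes.LeviDec Cfsg.Agent.Nodes.NormalForm
  Cfsg.Agent.H845.FD.Cox Cfsg.Agent.H845.FD.Card Cfsg.Agent.H845.FD.SitDef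
  Cfsg.Agent.KFacts.RgdAut Cfsg.Agent.KFacts.RgdDiag

variable {G : Type*} [Group G]

/-- the elements normalising the subgroup `S` of `N` -/
def FixG (N : Subgroup G) [N.Normal] (S : Subgroup N) : Subgroup G where
  carrier := {g | _root_.Cfsg.Agent.KFacts.RgdAut.Fix (MulAut.conjNormal g : MulAut N) S}
  one_mem' := by
    intro x
    rw [map_one]
    exact Iff.rfl
  mul_mem' := by
    intro a b ha hb
    change _root_.Cfsg.Agent.KFacts.RgdAut.Fix (MulAut.conjNormal (a * b) : MulAut N) S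
    rw [map_mul]
    exact Fix.mul ha hb
  inv_mem' := by
    intro a ha
    change _root_.Cfsg.Agent.KFacts.RgdAut.Fix (MulAut.conjNormal a⁻¹ : MulAut N) S
    rw [map_inv]
    exact Fix.inv ha

theorem mem_FixG {N : Subgroup G} [N.Normal] {S : Subgroup N} {g : G} :
    g ∈ FixG N S ↔ _root_.Cfsg.Agent.KFacts.RgdAut.Fix (MulAut.conjNormal g : MulAut N) S := Iff.rfl

theorem conjNormal_coe {N : Subgroup G} [N.Normal] (y : N) : (MulAut.conjNormal (y : G) : MulAut N) = MulAut.conj y := by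
  ext x
  rfl

theorem coe_mem_FixG {N : Subgroup G} [N.Normal] {S : Subgroup N} {y : N} :
    (y : G) ∈ FixG N S ↔ y ∈ Subgroup.normalizer (S : Set N) := by
  rw [mem_FixG, conjNormal_coe, Subgroup.mem_normalizer_iff]
  constructor
  · intro h x
    exact (h x).symm
  · intro h x
    exact (h x).symm

variable {W : Type*} [Group W] {M : CoxeterMatrix (Fin 2)} {N : Subgroup G} [N.Normal]
  {cs : CoxeterSystem M W} {A : Fin 2 → Fin 2 → ℤ} {h : IsCartan M A} {p : ℕ} {T : Subgroup N} {n : Fin 2 → N}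
  {X : (Fin 2 → ℤ) → Subgroup N}

/-- the elements normalising `U` and `P_0` -/
def K0 (cs : CoxeterSystem M W) (h : IsCartan M A) (T : Subgroup N) (X : (Fin 2 → ℤ) → Subgroup N) : Subgroup G :=
  FixG N (RGD.Sup X (RGD.Pos cs h)) ⊓ FixG N (PJ cs h T X {0})

/-- the subgroup `P_0 K0` -/
def Hm (cs : CoxeterSystem M W) (h : IsCartan M A) (T : Subgroup N) (X : (Fin 2 → ℤ) → Subgroup N) : Subgroup G where
  carrier := {g | ∃ y ∈ PJ cs h T X {0}, ∃ k ∈ K0 cs h T X, g = (y : G) * k}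
  one_mem' := ⟨1, one_mem _, 1, one_mem _, by simp⟩
  mul_mem' := by
    rintro _ _ ⟨y, hy, k, hk, rfl⟩ ⟨y', hy', k', hk', rfl⟩
    refine ⟨y * MulAut.conjNormal k y', mul_mem hy ((hk.2 y').2 hy'), k * k', mul_mem hk hk', ?_⟩
    rw [Subgroup.coe_mul, MulAut.conjNormal_apply]
    group
  inv_mem' := by
    rintro _ ⟨y, hy, k, hk, rfl⟩
    refine ⟨MulAut.conjNormal k⁻¹ y⁻¹, ((inv_mem hk).2 _).2 (inv_mem hy), k⁻¹, inv_mem hk, ?_⟩
    rw [MulAut.conjNormal_apply, Subgroup.coe_inv]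
    group

/-- the type preserving subgroup -/
def Gm (cs : CoxeterSystem M W) (h : IsCartan M A) (T : Subgroup N) (X : (Fin 2 → ℤ) → Subgroup N) : Subgroup G where
  carrier := {g | ∃ y : N, ∃ k ∈ K0 cs h T X, g = (y : G) * k}
  one_mem' := ⟨1, 1, one_mem _, by simp⟩
  mul_mem' := by
    rintro _ _ ⟨y, k, hk, rfl⟩ ⟨y', k', hk', rfl⟩
    refine ⟨y * MulAut.conjNormal k y', k * k', mul_mem hk hk', ?_⟩
    rw [Subgroup.coe_mul, MulAut.conjNormal_apply]
    group
  inv_mem' := by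
    rintro _ ⟨y, k, hk, rfl⟩
    refine ⟨MulAut.conjNormal k⁻¹ y⁻¹, k⁻¹, inv_mem hk, ?_⟩
    rw [MulAut.conjNormal_apply, Subgroup.coe_inv]
    group

/-- `k` acts on the diagram by `σ` -/
def DK (cs : CoxeterSystem M W) (h : IsCartan M A) (T : Subgroup N) (X : (Fin 2 → ℤ) → Subgroup N) (k : G)
    (σ : Equiv.Perm (Fin 2)) : Prop :=
  ∃ u ∈ RGD.Sup X (RGD.Pos cs h), Diag T X (MulAut.conjNormal ((u : G) * k)) σ

theorem DK.mul {k k' : G} {σ σ' : Equiv.Perm (Fin 2)} (hk : k ∈ FixG N (RGD.Sup X (RGD.Pos cs h)))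
    (h1 : DK cs h T X k σ) (h2 : DK cs h T X k' σ') : DK cs h T X (k * k') (σ * σ') := by
  obtain ⟨u, hu, D⟩ := h1
  obtain ⟨u', hu', D'⟩ := h2
  refine ⟨u * MulAut.conjNormal k u', mul_mem hu ((hk u').2 hu'), ?_⟩
  have h3 := D.mul D'
  rw [← map_mul] at h3
  have h4 : ((u : G) * k) * ((u' : G) * k') = ((u * MulAut.conjNormal k u' : N) : G) * (k * k') := by
    rw [Subgroup.coe_mul, MulAut.conjNormal_apply]
    group
  rwa [h4] at h3

theorem perm_cases (σ : Equiv.Perm (Fin 2)) : σ = 1 ∨ σ = Equiv.swap 0 1 := by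
  revert σ
  decide

section

variable (R : RGD cs h p T n X)

include R

theorem exists_DK [Finite W] (hG : GG cs h T X = ⊤) {k : G} (hk : k ∈ FixG N (RGD.Sup X (RGD.Pos cs h))) :
    ∃ σ, DK cs h T X k σ := by
  obtain ⟨u, hu, h1, -, h2, -, -⟩ := exists_frame R hG hk
  obtain ⟨σ, D⟩ := exists_diag R hG h1 h2
  refine ⟨σ, u, hu, ?_⟩
  rwa [← conjNormal_coe, ← map_mul] at D

/-- an element with diagonal action preserves the cells -/
theorem rp_of_DK [Finite W] {k : G} (u : N) (D : Diag T X (MulAut.conjNormal ((u : G) * k)) 1) {w : W} {g : N}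
    (hg : Rp cs R.nsys w g) : Rp cs R.nsys w (MulAut.conjNormal ((u : G) * k) g) := by
  have hσ : ∀ i j, M ((1 : Equiv.Perm (Fin 2)) i) ((1 : Equiv.Perm (Fin 2)) j) = M i j := fun i j => rfl
  have h1 := D.rp' (R := R) hσ hg
  have h2 : hat cs (1 : Equiv.Perm (Fin 2)) hσ = MonoidHom.id W := by
    refine cs.ext_simple fun i => ?_
    exact (hat_simple (1 : Equiv.Perm (Fin 2)) hσ i)
  rw [h2] at h1
  exact h1

theorem mem_K0_iff [Finite W] (hG : GG cs h T X = ⊤) {k : G} (hk : k ∈ FixG N (RGD.Sup X (RGD.Pos cs h))) :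
    k ∈ K0 cs h T X ↔ DK cs h T X k 1 := by
  have hUP : RGD.Sup X (RGD.Pos cs h) ≤ PJ cs h T X {0} := RGD.U_le_B.trans B_le_PJ
  have hfix : ∀ u ∈ RGD.Sup X (RGD.Pos cs h), (_root_.Cfsg.Agent.KFacts.RgdAut.Fix (MulAut.conjNormal k : MulAut N) (PJ cs h T X {0}) ↔
      _root_.Cfsg.Agent.KFacts.RgdAut.Fix (MulAut.conjNormal ((u : G) * k) : MulAut N) (PJ cs h T X {0})) := by
    intro u hu
    have h1 : ∀ x : N, (MulAut.conjNormal ((u : G) * k) x) ∈ PJ cs h T X {0} ↔ MulAut.conjNormal k x ∈ PJ cs h T X {0} := by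
      intro x
      rw [map_mul, conjNormal_coe, MulAut.mul_apply, MulAut.conj_apply]
      constructor
      · intro h2
        have h3 := mul_mem (mul_mem (inv_mem (hUP hu)) h2) (hUP hu)
        have h4 : u⁻¹ * (u * MulAut.conjNormal k x * u⁻¹) * u = MulAut.conjNormal k x := by group
        rwa [h4] at h3
      · intro h2
        exact mul_mem (mul_mem (hUP hu) h2) (inv_mem (hUP hu))
    constructor
    · intro h2 x
      rw [h1, h2]
    · intro h2 x
      rw [← h1, h2]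
  constructor
  · intro h1
    obtain ⟨σ, u, hu, D⟩ := exists_DK R hG hk
    have h2 := (hfix u hu).1 h1.2
    have h3 : n 0 ∈ PJ cs h T X {0} := LJ_le_PJ (n_mem_LJ R rfl)
    have h4 := (h2 (n 0)).2 h3
    have h5 := (cell_mem_PJ_iff R (cell_of_rp (D.rp (R := R) 0))).1 h4
    have h6 := eq_of_simple_mem h h5
    rcases perm_cases σ with rfl | rfl
    · exact ⟨u, hu, D⟩
    · exact absurd h6 (by decide)
  · rintro ⟨u, hu, D⟩
    refine ⟨hk, (hfix u hu).2 ?_⟩
    have h1 : _root_.Cfsg.Agent.KFacts.RgdAut.Fix (MulAut.conjNormal ((u : G) * k) : MulAut N) (RGD.B cs h T X) := by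
      refine fix_B R hG ?_
      have huF : (u : G) ∈ FixG N (RGD.Sup X (RGD.Pos cs h)) := coe_mem_FixG.2 (Subgroup.le_normalizer hu)
      exact mul_mem huF hk
    have key : ∀ x : N, (∃ w ∈ WJ cs {0}, Cell R.nsys cs h X w x) →
        ∃ w ∈ WJ cs {0}, Cell R.nsys cs h X w (MulAut.conjNormal ((u : G) * k) x) := by
      rintro x ⟨w, hw, b₁, hb₁, g, hg, b₂, hb₂, rfl⟩
      refine ⟨w, hw, _, (h1 b₁).2 hb₁, _, rp_of_DK R u D hg, _, (h1 b₂).2 hb₂, ?_⟩
      rw [map_mul, map_mul]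
    intro x
    rw [mem_PJ_iff_cell R, mem_PJ_iff_cell R]
    refine ⟨fun h2 => ?_, key x⟩
    obtain ⟨w, hw⟩ := (mem_GG R).1 (hG ▸ Subgroup.mem_top x)
    refine ⟨w, ?_, hw⟩
    obtain ⟨b₁, hb₁, g, hg, b₂, hb₂, rfl⟩ := hw
    obtain ⟨w', hw', hc⟩ := h2
    have h3 : Cell R.nsys cs h X w (MulAut.conjNormal ((u : G) * k) (b₁ * g * b₂)) :=
      ⟨_, (h1 b₁).2 hb₁, _, rp_of_DK R u D hg, _, (h1 b₂).2 hb₂, by rw [map_mul, map_mul]⟩
    rwa [Cell.unique R h3 hc]

end

end Cfsg.Agent.H845.FD.Setup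
end

-- part: H845/FD/SetupSit
section
/-!
# The type preserving subgroup of index at most two: the situation `Sit` (helper845)
-/

set_option autoImplicit false
set_option linter.unusedSectionVars false

namespace Cfsg.Agent.H845.FD.Setup

open CoxeterSystem Cfsg.Agent.ChevalleyStructure.CoxeterGeom Cfsg.Agent.Tits.Roots Cfsg.Agent.Tits.Core
  Cfsg.Agent.Tits.Exchange Cfsg.Agent.Nodes.Reps Cfsg.Agent.Nodes.BNOf Cfsg.Agent.Nodes.StabComb
  Cfsg.Agent.Nodes.Bruhat Cfsg.Agent.Nodes.OppDec Cfsg.Agent.Nodes.LeviDec Cfsg.Agent.Nodes.NormalForm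
  Cfsg.Agent.H845.FD.Cox Cfsg.Agent.H845.FD.Card Cfsg.Agent.H845.FD.SitDef
  Cfsg.Agent.KFacts.RgdAut Cfsg.Agent.KFacts.RgdDiag

variable {G : Type*} [Group G] {W : Type*} [Group W] {M : CoxeterMatrix (Fin 2)} {N : Subgroup G} [N.Normal]
  {cs : CoxeterSystem M W} {A : Fin 2 → Fin 2 → ℤ} {h : IsCartan M A} {p : ℕ} {T : Subgroup N} {n : Fin 2 → N}
  {X : (Fin 2 → ℤ) → Subgroup N}

theorem le_Gm : N ≤ Gm cs h T X := fun y hy => ⟨⟨y, hy⟩, 1, one_mem _, by simp⟩

variable (R : RGD cs h p T n X)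

include R

theorem coe_mem_K0 {b : N} (hb : b ∈ RGD.B cs h T X) : (b : G) ∈ K0 cs h T X :=
  ⟨coe_mem_FixG.2 (R.B_le_normalizer_U hb), coe_mem_FixG.2 (Subgroup.le_normalizer (B_le_PJ hb))⟩

theorem mem_B_of_coe [Finite W] (hG : GG cs h T X = ⊤) {b : N} (hb : (b : G) ∈ FixG N (RGD.Sup X (RGD.Pos cs h))) :
    b ∈ RGD.B cs h T X := by
  rw [coe_mem_FixG, normalizer_U' R hG] at hb
  exact hb

/-- the Frattini argument -/
theorem frattini [Finite W] [Finite G] [hp : Fact p.Prime] (hG : GG cs h T X = ⊤) (g : G) :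
    ∃ y : N, ∃ k ∈ FixG N (RGD.Sup X (RGD.Pos cs h)), g = (y : G) * k := by
  obtain ⟨S, hS⟩ := R.isPGroup_Upos.exists_le_sylow
  have h1 := eq_U_of_isPGroup R S.isPGroup' hS (by rw [hG]; exact le_top)
  have h2 := Sylow.normalizer_sup_eq_top (N := N) S
  have h3 : g⁻¹ ∈ Subgroup.normalizer (((S : Subgroup N).map N.subtype : Subgroup G) : Set G) ⊔ N := by
    have h4 : g⁻¹ ∈ (⊤ : Subgroup G) := Subgroup.mem_top _
    rwa [← h2] at h4
  rw [Subgroup.mem_sup_of_normal_right] at h3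
  obtain ⟨k, hk, y, hy, e⟩ := h3
  refine ⟨⟨y⁻¹, inv_mem hy⟩, k⁻¹, ?_, ?_⟩
  · refine inv_mem ?_
    intro x
    rw [← h1]
    have h5 := Subgroup.mem_normalizer_iff.1 hk (x : G)
    have h6 : ∀ z : N, (z : G) ∈ (S : Subgroup N).map N.subtype ↔ z ∈ (S : Subgroup N) := by
      intro z
      constructor
      · rintro ⟨z', hz', e'⟩
        have h7 : z' = z := Subtype.ext e'
        rwa [← h7]
      · intro hz
        exact ⟨z, hz, rfl⟩
    change MulAut.conjNormal k x ∈ (S : Subgroup N) ↔ x ∈ (S : Subgroup N)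
    rw [← h6, ← h6 x, MulAut.conjNormal_apply]
    exact h5.symm
  · rw [← inv_inj, ← e]
    simp

theorem mul_mem_Gm_iff [Finite W] (hG : GG cs h T X = ⊤) {y : N} {k : G} (hk : k ∈ FixG N (RGD.Sup X (RGD.Pos cs h))) :
    (y : G) * k ∈ Gm cs h T X ↔ k ∈ K0 cs h T X := by
  constructor
  · rintro ⟨y', k', hk', e⟩
    have h1 : ((y⁻¹ * y' : N) : G) = k * k'⁻¹ := by
      rw [Subgroup.coe_mul, Subgroup.coe_inv, eq_mul_inv_iff_mul_eq, mul_assoc, ← e, inv_mul_cancel_left]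
    have h2 : ((y⁻¹ * y' : N) : G) ∈ FixG N (RGD.Sup X (RGD.Pos cs h)) := by
      rw [h1]; exact mul_mem hk (inv_mem hk'.1)
    have h3 := coe_mem_K0 R (mem_B_of_coe R hG h2)
    rw [h1] at h3
    have h4 := mul_mem h3 hk'
    rwa [inv_mul_cancel_right] at h4
  · intro hk'
    exact ⟨y, k, hk', rfl⟩

/-- The type preserving subgroup has index 1 or 2. -/
theorem Gm_cases [Finite W] [Finite G] [hp : Fact p.Prime] (hG : GG cs h T X = ⊤) :
    Gm cs h T X = ⊤ ∨ ((Gm cs h T X).index = 2 ∧ Nat.card ↥(X (sr 0)) = Nat.card ↥(X (sr 1))) := by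
  by_cases hK : ∀ k ∈ FixG N (RGD.Sup X (RGD.Pos cs h)), k ∈ K0 cs h T X
  · left
    rw [eq_top_iff]
    intro g _
    obtain ⟨y, k, hk, rfl⟩ := frattini R hG g
    exact (mul_mem_Gm_iff R hG hk).2 (hK k hk)
  · right
    push Not at hK
    obtain ⟨k₁, hk₁, hk₁'⟩ := hK
    obtain ⟨σ, hσ⟩ := exists_DK R hG hk₁
    have hσ1 : σ ≠ 1 := fun h1 => hk₁' ((mem_K0_iff R hG hk₁).2 (h1 ▸ hσ))
    have hσ2 : σ = Equiv.swap 0 1 := (perm_cases σ).resolve_left hσ1
    subst hσ2
    constructor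
    · rw [Subgroup.index_eq_two_iff]
      refine ⟨k₁, fun g => ?_⟩
      obtain ⟨y, k, hk, rfl⟩ := frattini R hG g
      rw [mul_assoc, mul_mem_Gm_iff R hG hk, mul_mem_Gm_iff R hG (mul_mem hk hk₁), mem_K0_iff R hG hk,
        mem_K0_iff R hG (mul_mem hk hk₁)]
      obtain ⟨τ, hτ⟩ := exists_DK R hG hk
      have h1 := DK.mul hk hτ hσ
      -- uniqueness of the permutation
      have huniq : ∀ {g : G} {σ₁ : Equiv.Perm (Fin 2)}, g ∈ FixG N (RGD.Sup X (RGD.Pos cs h)) → DK cs h T X g σ₁ →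
          DK cs h T X g 1 → σ₁ = 1 := by
        intro g σ₁ hg h2 h3
        rcases perm_cases σ₁ with h4 | h4
        · exact h4
        · exfalso
          subst h4
          have h5 := (mem_K0_iff R hG hg).2 h3
          obtain ⟨u, hu, D⟩ := h2
          have h6 : (u : G) * g ∈ K0 cs h T X := mul_mem (coe_mem_K0 R (RGD.U_le_B hu)) h5
          have h7 := (h6.2 (n 0)).2 (LJ_le_PJ (n_mem_LJ R rfl))
          have h8 := (cell_mem_PJ_iff R (cell_of_rp (D.rp (R := R) 0))).1 h7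
          exact absurd (eq_of_simple_mem h h8) (by decide)
      rcases perm_cases τ with rfl | rfl
      · refine Or.inr ⟨hτ, fun h2 => ?_⟩
        exact absurd (huniq (mul_mem hk hk₁) h1 h2) (by decide)
      · refine Or.inl ⟨?_, fun h2 => ?_⟩
        · have h3 : Equiv.swap (0 : Fin 2) 1 * Equiv.swap 0 1 = 1 := by decide
          rwa [h3] at h1
        · exact absurd (huniq hk hτ h2) (by decide)
    · obtain ⟨u, hu, D⟩ := hσ
      refine Nat.card_congr (Equiv.ofBijective (fun x : ↥(X (sr 0)) =>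
        (⟨MulAut.conjNormal ((u : G) * k₁) x, (D.pos 0 x).2 x.2⟩ : ↥(X (sr 1)))) ⟨?_, ?_⟩)
      · intro a b hab
        have h1 := congrArg Subtype.val hab
        exact Subtype.ext ((MulAut.conjNormal ((u : G) * k₁) : MulAut N).injective h1)
      · rintro ⟨b, hb⟩
        obtain ⟨a, rfl⟩ := (MulAut.conjNormal ((u : G) * k₁) : MulAut N).surjective b
        exact ⟨⟨a, (D.pos 0 a).1 hb⟩, rfl⟩

/-- **The situation.** -/
theorem sit [Finite W] [Finite G] (hG : GG cs h T X = ⊤) :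
    Sit R (Subgroup.inclusion (le_Gm : N ≤ Gm cs h T X)) ((Hm cs h T X).subgroupOf (Gm cs h T X)) where
  inj := Subgroup.inclusion_injective _
  conj := by
    rintro ⟨g, hg⟩ y
    exact ⟨MulAut.conjNormal g⁻¹ y, Subtype.ext (by
      change ((MulAut.conjNormal g⁻¹ y : N) : G) = g⁻¹ * y * g
      rw [MulAut.conjNormal_apply, inv_inv])⟩
  mem := by
    intro y
    rw [Subgroup.mem_subgroupOf]
    change (y : G) ∈ Hm cs h T X ↔ _
    constructor
    · rintro ⟨y', hy', k, hk, e⟩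
      have h1 : ((y'⁻¹ * y : N) : G) = k := by
        rw [Subgroup.coe_mul, Subgroup.coe_inv, e, inv_mul_cancel_left]
      have h2 : ((y'⁻¹ * y : N) : G) ∈ FixG N (RGD.Sup X (RGD.Pos cs h)) := by rw [h1]; exact hk.1
      have h3 := mul_mem hy' (B_le_PJ (J := {0}) (mem_B_of_coe R hG h2))
      rwa [mul_inv_cancel_left] at h3
    · intro hy
      exact ⟨y, hy, 1, one_mem _, by simp⟩
  dec := by
    rintro ⟨g, y, k, hk, rfl⟩
    refine ⟨y, ⟨k, ⟨1, k, hk, by simp⟩⟩, ?_, rfl⟩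
    rw [Subgroup.mem_subgroupOf]
    exact ⟨1, one_mem _, k, hk, by simp⟩
  diag := by
    rintro ⟨x, hxG⟩ hx
    rw [Subgroup.mem_subgroupOf] at hx
    obtain ⟨y, hy, k, hk, e⟩ := hx
    obtain ⟨u, hu, D⟩ := (mem_K0_iff R hG hk.1).1 hk
    refine ⟨u * y⁻¹, mul_mem (B_le_PJ (RGD.U_le_B hu)) (inv_mem hy), fun w g hg => ?_⟩
    refine ⟨MulAut.conjNormal ((u : G) * k) g, rp_of_DK R u D hg, Subtype.ext ?_⟩
    have e' : x = (y : G) * k := e
    change ((u * y⁻¹ : N) : G) * x * g = ((MulAut.conjNormal ((u : G) * k) g : N) : G) * (((u * y⁻¹ : N) : G) * x)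
    rw [MulAut.conjNormal_apply, e', Subgroup.coe_mul, Subgroup.coe_inv]
    group

end Cfsg.Agent.H845.FD.Setup
end

-- part: H845/FD/Key
section
/-!
# The constituents of the permutation character on the cosets of a parabolic subgroup (helper845)

* `Sit.dvd_degree`, `Sit.degree_lt` : a nonprincipal constituent has degree divisible by `p` and less than `|Y : P_0|`;
* `Sit.false_of_degrees` : there is no `f` with `f ∣ χ(1) ≤ 2 f` for all the nonprincipal constituents `χ`.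
-/

set_option autoImplicit false
set_option linter.unusedSectionVars false

namespace Cfsg.Agent.H845.FD.SitDef

open Cfsg CoxeterSystem Cfsg.Agent.ChevalleyStructure.CoxeterGeom Cfsg.Agent.Tits.Roots Cfsg.Agent.Tits.Core
  Cfsg.Agent.Tits.Exchange Cfsg.Agent.Nodes.Reps Cfsg.Agent.Nodes.BNOf Cfsg.Agent.Nodes.StabComb
  Cfsg.Agent.Nodes.Bruhat Cfsg.Agent.Nodes.OppDec Cfsg.Agent.Nodes.LeviDec Cfsg.Agent.Nodes.NormalForm
  Cfsg.Agent.H845.FD.Cox Cfsg.Agent.H845.FD.Card Cfsg.Agent.H672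

universe u v

variable {W : Type*} {Y : Type u} {Γ : Type v} [Group W] [Group Y] [Group Γ] {M : CoxeterMatrix (Fin 2)}
  {cs : CoxeterSystem M W} {A : Fin 2 → Fin 2 → ℤ} {h : IsCartan M A} {p : ℕ} {T : Subgroup Y} {n : Fin 2 → Y}
  {X : (Fin 2 → ℤ) → Subgroup Y} {R : RGD cs h p T n X} {φ : Y →* Γ} {H : Subgroup Γ} (S : Sit R φ H)

include S

/-- `p` divides the degrees of the nonprincipal constituents. -/
theorem Sit.dvd_degree [Finite W] [Finite Y] [Fintype Γ] [Fintype (Γ ⧸ H)] [Fintype ↥(RGD.B cs h T X)]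
    (hD : ∀ ξ : Y → ℂ, IsIrrCharacter Y ξ → ξ ≠ (fun _ => 1) → ∑ b : RGD.B cs h T X, ξ b ≠ 0 → p ∣ charDegree ξ)
    {χ : Γ → ℂ} (hχ : IsIrrCharacter Γ χ) (h1 : χ ≠ fun _ => 1)
    (h2 : classInner (fun g : Γ => (Nat.card (MulAction.fixedBy (Γ ⧸ H) g) : ℂ)) χ ≠ 0) : p ∣ charDegree χ := by
  have h3 := Perm.over_stabilizer (pt H) hχ h2
  rw [MulAction.stabilizer_quotient] at h3
  obtain ⟨ξ, hξ, h4, h5, h6⟩ := Perm.exists_under_ne_one hχ h1 φ S.conj H S.dec (RGD.B cs h T X)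
    (fun b hb => (S.mem b).2 (B_le_PJ hb)) h3
  exact (hD ξ hξ h5 (Perm.sum_ne_zero_of_over _ h6)).trans (Perm.dvd_of_over φ S.inj S.conj hχ hξ h4)

theorem Sit.degree_lt [Finite W] [Finite Y] [Fintype Γ] [Fintype (Γ ⧸ H)]
    {χ : Γ → ℂ} (hχ : IsIrrCharacter Γ χ) (h1 : χ ≠ fun _ => 1)
    (h2 : classInner (fun g : Γ => (Nat.card (MulAction.fixedBy (Γ ⧸ H) g) : ℂ)) χ ≠ 0) :
    charDegree χ < (PJ cs h T X {0}).index := by
  have h3 := Perm.charDegree_lt (pt H) hχ h1 h2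
  rwa [S.card_eq] at h3

theorem Sit.false_of_degrees [Finite W] [Finite Y] [Fintype Γ] [Fintype (Γ ⧸ H)] [hp : Fact p.Prime]
    (hG : GG cs h T X = ⊤) (hM : 4 ≤ M 0 1)
    (hidx : (PJ cs h T X {0}).index * (Nat.card (X (sr 0)) * Nat.card (X (sr 1)) - 1) =
      (Nat.card (RGD.Sup X (RGD.Pos cs h)) - 1) * (1 + Nat.card (X (sr 1)))) (f : ℕ)
    (hf : ∀ χ : Γ → ℂ, IsIrrCharacter Γ χ → χ ≠ (fun _ => 1) →
      classInner (fun g : Γ => (Nat.card (MulAction.fixedBy (Γ ⧸ H) g) : ℂ)) χ ≠ 0 →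
      f ∣ charDegree χ ∧ charDegree χ ≤ 2 * f) : False := by
  obtain ⟨k, hk, hk3, hk2, hneg⟩ := exists_neg cs h hM
  obtain ⟨g, hg⟩ := exists_rp cs R.nsys (rot cs ^ k)
  have hQ := le_card_U R hM
  have hU0 := card_U_eq R 0
  have hq0 := two_le_card R 0
  have hq1 := two_le_card R 1
  have hnd := not_dvd_index R hG
  obtain ⟨q0, e0⟩ : ∃ q, q = Nat.card ↥(X (sr 0)) := ⟨_, rfl⟩
  obtain ⟨q1, e1⟩ : ∃ q, q = Nat.card ↥(X (sr 1)) := ⟨_, rfl⟩
  obtain ⟨Q, eQ⟩ : ∃ q, q = Nat.card ↥(RGD.Sup X (RGD.Pos cs h)) := ⟨_, rfl⟩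
  obtain ⟨V, eV⟩ : ∃ q, q = Nat.card ↥(VJ cs h X {0}) := ⟨_, rfl⟩
  obtain ⟨m, em⟩ : ∃ q, q = (PJ cs h T X {0}).index := ⟨_, rfl⟩
  -- the bound
  have h1 := Perm.card_le (pt H) (2 * f) fun χ hχ h1 h2 => (hf χ hχ h1 h2).2
  rw [S.card_eq] at h1
  have h2 := S.rank_le hG hk (by omega)
  -- the divisibility
  have hdvd : ∀ b : Γ ⧸ H, b ≠ pt H → f ∣ Nat.card (MulAction.orbit (MulAction.stabilizer Γ (pt H)) b) := by
    intro b hb
    refine Cfsg.Agent.S0715.result f (fun χ hχ h1 h2 => ?_) (pt H) b hb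
    obtain ⟨c, hc⟩ := (hf χ hχ h1 h2).1
    refine ⟨c, ?_⟩
    rw [← coe_charDegree hχ, hc]
    push_cast
    ring
  have h3 := S.card_orbit_opp hneg hg
  rw [← eV] at h3
  rw [← e0, ← eQ, ← eV] at hU0
  rw [← e0] at hq0
  rw [← e1] at hq1
  rw [← e0, ← e1, ← eQ] at hQ hidx
  rw [← em] at hidx h1
  have hV : 1 < V := by
    by_contra hcon
    have h4 : q0 * V ≤ q0 * 1 := Nat.mul_le_mul_left _ (by omega)
    have h5 : (q0 * q1) ^ 2 = q0 * (q0 * q1 * q1) := by ring
    have h7 : 2 * 2 * 2 ≤ q0 * q1 * q1 := Nat.mul_le_mul (Nat.mul_le_mul hq0 hq1) hq1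
    have h6 : q0 * 1 < q0 * (q0 * q1 * q1) := Nat.mul_lt_mul_of_pos_left (by omega) (by omega)
    omega
  have hb0 : φ g • pt H ≠ pt H := by
    intro he
    have h4 : MulAction.orbit (MulAction.stabilizer Γ (pt H)) (φ g • pt H) = {pt H} := by
      rw [he]
      ext b
      constructor
      · rintro ⟨⟨x, hx⟩, rfl⟩
        exact hx
      · rintro rfl
        exact MulAction.mem_orbit_self _
    rw [h4, Nat.card_unique] at h3
    omega
  have hb1 : φ (n 1) • pt H ≠ pt H := by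
    intro he
    have h4 : φ (n 1) • pt H = (1 : Γ) • pt H := by rw [he, one_smul]
    rw [smul_pt_eq_iff, mul_one, inv_mem_iff, S.mem] at h4
    have h5 := (cell_mem_PJ_iff R (cell_of_rp (rp_simple cs R.nsys 1))).1 h4
    exact absurd (KFacts.RgdDiag.eq_of_simple_mem h h5) (by decide)
  have d0 := hdvd _ hb0
  rw [h3] at d0
  have d1 := (hdvd _ hb1).trans S.card_orbit_one
  rw [← e1] at d1
  -- `V` is a power of `p`
  have hcop : Nat.Coprime f ((RGD.Sup X (RGD.Pos cs h)).relIndex (PJ cs h T X {0})) := by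
    have hVp : IsPGroup p ↥(VJ cs h X {0}) := R.isPGroup_Upos.to_le (VJ_le_U _)
    obtain ⟨j, hj⟩ := IsPGroup.iff_card.1 hVp
    rw [← eV] at hj
    rw [hj] at d0
    obtain ⟨i, -, hi⟩ := (Nat.dvd_prime_pow hp.out).1 d0
    rw [hi]
    refine Nat.Coprime.pow_left _ ((Nat.Prime.coprime_iff_not_dvd hp.out).2 fun h4 => hnd ?_)
    exact h4.trans ((Subgroup.relIndex_dvd_index_of_le (RGD.U_le_B.trans B_le_PJ)))
  have d2 : f ∣ q1 := hcop.dvd_of_dvd_mul_left d1
  have h4 : f ≤ q1 := Nat.le_of_dvd (by omega) d2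
  have h5 : m ≤ 1 + 6 * q1 := by
    refine h1.trans (Nat.add_le_add_left ?_ 1)
    calc 2 * f * (Nat.card (MulAction.orbitRel.Quotient (MulAction.stabilizer Γ (pt H)) (Γ ⧸ H)) - 1) ≤
        2 * q1 * 3 := Nat.mul_le_mul (by omega) (by omega)
      _ = 6 * q1 := by ring
  -- numbers
  obtain ⟨a, ha⟩ : ∃ a, a = q0 * q1 := ⟨_, rfl⟩
  rw [← ha] at hidx hQ
  have ha1 : 2 * q1 ≤ a := by rw [ha]; exact Nat.mul_le_mul_right _ hq0
  have h6 : (a + 1) * (1 + q1) ≤ m := by
    have h7 : (a - 1) * ((a + 1) * (1 + q1)) ≤ (a - 1) * m := by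
      calc (a - 1) * ((a + 1) * (1 + q1)) = (a ^ 2 - 1) * (1 + q1) := by
            rw [← mul_assoc]
            congr 1
            obtain ⟨b, rfl⟩ : ∃ b, a = b + 1 := ⟨a - 1, by omega⟩
            have : (b + 1) ^ 2 - 1 = b * (b + 2) := by
              rw [show (b + 1) ^ 2 = b * (b + 2) + 1 by ring, Nat.add_sub_cancel]
            rw [this, Nat.add_sub_cancel]
        _ ≤ (Q - 1) * (1 + q1) := Nat.mul_le_mul_right _ (by omega)
        _ = (a - 1) * m := by rw [← hidx, mul_comm]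
    exact Nat.le_of_mul_le_mul_left h7 (by omega)
  nlinarith only [hq1, h5, ha1, h6]

end Cfsg.Agent.H845.FD.SitDef
end

-- part: H845/FD/Main
section
/-!
# Almost simple groups with socle of type `B₂`, `G₂` have at least five character degrees (helper845)
-/

set_option autoImplicit false
set_option linter.unusedSectionVars false

namespace Cfsg.Agent.H845.FD.Main

open Cfsg CoxeterSystem Cfsg.Agent.ChevalleyStructure.CoxeterGeom Cfsg.Agent.Tits.Roots Cfsg.Agent.Tits.Core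
  Cfsg.Agent.Tits.Exchange Cfsg.Agent.Nodes.Reps Cfsg.Agent.Nodes.BNOf Cfsg.Agent.Nodes.StabComb
  Cfsg.Agent.Nodes.Bruhat Cfsg.Agent.Nodes.OppDec Cfsg.Agent.Nodes.LeviDec Cfsg.Agent.Nodes.NormalForm
  Cfsg.Agent.H845.FD.Cox Cfsg.Agent.H845.FD.Card Cfsg.Agent.H845.FD.SitDef Cfsg.Agent.H672
  Cfsg.Agent.H845.FD.Setup

universe u

theorem finite_charDegrees (G : Type u) [Group G] [Finite G] : (charDegrees G).Finite := by
  have := Cfsg.Agent.Characters.Core.finite_irr (G := G)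
  have h1 : charDegrees G = Set.range (fun χ : IrrCharacter G => charDegree (χ : G → ℂ)) := rfl
  rw [h1]
  exact Set.finite_range _

theorem one_mem_charDegrees (G : Type u) [Group G] : 1 ∈ charDegrees G :=
  ⟨⟨_, Perm.isIrr_one'⟩, charDegree_of_eq (by norm_num)⟩

/-- A nonlinear character of degree prime to `p`. -/
theorem exists_nonlinear {G : Type u} [Group G] [Finite G] {p : ℕ} [hp : Fact p.Prime] (N : Subgroup G) [N.Normal]
    (hc : Subgroup.centralizer (N : Set G) = ⊥) [IsSimpleGroup N] (hpN : p ∣ Nat.card N) :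
    ∃ m ∈ charDegrees G, m ≠ 1 ∧ ¬ p ∣ m := by
  by_contra hcon
  push Not at hcon
  obtain ⟨K, hK, hKp, k, hk⟩ := Cfsg.Agent.S4456.result (G := G) p hp.out fun χ h1 => hcon _ ⟨χ, rfl⟩ h1
  -- `K ∩ N = 1`
  have h1 : K.subgroupOf N = ⊥ ∨ K.subgroupOf N = ⊤ := by
    have : (K.subgroupOf N).Normal := Subgroup.Normal.subgroupOf hK N
    exact this.eq_bot_or_eq_top
  rcases h1 with h1 | h1
  · have h2 : K ⊓ N = ⊥ := by
      rw [Subgroup.subgroupOf_eq_bot] at h1
      exact disjoint_iff.1 h1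
    have h3 : K ≤ Subgroup.centralizer (N : Set G) := by
      intro x hx
      rw [Subgroup.mem_centralizer_iff]
      intro y hy
      have h4 : y * x * y⁻¹ * x⁻¹ ∈ K ⊓ N := by
        refine Subgroup.mem_inf.2 ⟨mul_mem (hK.conj_mem x hx y) (inv_mem hx), ?_⟩
        have h5 : y * x * y⁻¹ * x⁻¹ = y * (x * y⁻¹ * x⁻¹) := by group
        rw [h5]
        exact mul_mem hy (Subgroup.Normal.conj_mem inferInstance _ (inv_mem hy) x)
      rw [h2, Subgroup.mem_bot] at h4
      rw [mul_inv_eq_one, mul_inv_eq_iff_eq_mul] at h4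
      exact h4
    rw [hc] at h3
    have hK1 : K = ⊥ := eq_bot_iff.2 h3
    rw [hK1, Subgroup.index_bot] at hk
    -- `G` is a `p`-group
    have hGp : IsPGroup p N := (IsPGroup.of_card hk).to_subgroup N
    have h5 : Subgroup.center N ≠ ⊥ := by
      intro h6
      have := hGp.center_nontrivial
      rw [h6] at this
      exact not_subsingleton ↥(⊥ : Subgroup N) (inferInstance : Subsingleton ↥(⊥ : Subgroup N))
    have h6 : Subgroup.center N = ⊤ := (Subgroup.Normal.eq_bot_or_eq_top inferInstance).resolve_left h5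
    obtain ⟨x, hx⟩ := exists_ne (1 : N)
    apply hx
    have h7 : (x : G) ∈ Subgroup.centralizer (N : Set G) := by
      rw [Subgroup.mem_centralizer_iff]
      intro y hy
      have h8 : x ∈ Subgroup.center N := by rw [h6]; exact Subgroup.mem_top x
      exact congrArg Subtype.val (Subgroup.mem_center_iff.1 h8 ⟨y, hy⟩)
    rw [hc, Subgroup.mem_bot] at h7
    exact Subtype.ext h7
  · rw [Subgroup.subgroupOf_eq_top] at h1
    have h2 : p ∣ Nat.card K := hpN.trans (Subgroup.card_dvd_of_le h1)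
    exact (Nat.Prime.coprime_iff_not_dvd hp.out).1 hKp.symm h2

/-- Two different further degrees divisible by `p` give five degrees. -/
theorem eq_of_not_five {G : Type u} [Group G] [Finite G] {p : ℕ} [hp : Fact p.Prime] (h5 : ¬ 5 ≤ (charDegrees G).ncard)
    {Q m : ℕ} (hQ : Q ∈ charDegrees G) (hpQ : p ∣ Q) (hm : m ∈ charDegrees G) (hm1 : m ≠ 1)
    (hpm : ¬ p ∣ m) {d d' : ℕ} (hd : d ∈ charDegrees G) (hd' : d' ∈ charDegrees G) (hpd : p ∣ d) (hpd' : p ∣ d')
    (hdQ : d ≠ Q) (hdQ' : d' ≠ Q) : d = d' := by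
  classical
  by_contra hne
  apply h5
  have h1 : ∀ x, p ∣ x → x ≠ 1 := fun x hx h1 => hp.out.one_lt.ne' (Nat.dvd_one.1 (h1 ▸ hx))
  have h2 : ∀ x, p ∣ x → x ≠ m := fun x hx h1 => hpm (h1 ▸ hx)
  have h3 : (({1, m, Q, d, d'} : Finset ℕ) : Set ℕ) ⊆ charDegrees G := by
    intro x hx
    simp only [Finset.coe_insert, Finset.coe_singleton, Set.mem_insert_iff, Set.mem_singleton_iff] at hx
    rcases hx with rfl | rfl | rfl | rfl | rfl
    · exact one_mem_charDegrees G
    · exact hm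
    · exact hQ
    · exact hd
    · exact hd'
  have h4 := Set.ncard_le_ncard h3 (finite_charDegrees G)
  rw [Set.ncard_coe_finset] at h4
  refine le_trans (le_of_eq ?_) h4
  rw [Finset.card_insert_of_notMem, Finset.card_insert_of_notMem, Finset.card_insert_of_notMem,
    Finset.card_pair hne]
  · simp only [Finset.mem_insert, Finset.mem_singleton, not_or]
    exact ⟨hdQ.symm, hdQ'.symm⟩
  · simp only [Finset.mem_insert, Finset.mem_singleton, not_or]
    exact ⟨(h2 Q hpQ).symm, (h2 d hpd).symm, (h2 d' hpd').symm⟩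
  · simp only [Finset.mem_insert, Finset.mem_singleton, not_or]
    exact ⟨hm1.symm, (h1 Q hpQ).symm, (h1 d hpd).symm, (h1 d' hpd').symm⟩

theorem numbers {n0 q0 q1 Q t : ℕ} (h0 : 2 ≤ q0) (h1 : 2 ≤ q1) (hQ : 1 < Q)
    (hidx : n0 * (q0 * q1 - 1) = (Q - 1) * (1 + q1)) (ht : t = 1 ∨ (t = 2 ∧ q0 = q1 ∧ 3 ≤ q1)) :
    t * (n0 - 1) < Q := by
  rcases ht with rfl | ⟨rfl, rfl, h3⟩
  · rw [one_mul]
    have h2 : 1 + q1 ≤ q0 * q1 - 1 := by
      have : 2 * q1 ≤ q0 * q1 := Nat.mul_le_mul_right _ h0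
      omega
    have h3 : n0 * (q0 * q1 - 1) ≤ (Q - 1) * (q0 * q1 - 1) := hidx.le.trans (Nat.mul_le_mul_left _ h2)
    have h4 : n0 ≤ Q - 1 := Nat.le_of_mul_le_mul_right h3 (by
      have : 2 * q1 ≤ q0 * q1 := Nat.mul_le_mul_right _ h0
      omega)
    omega
  · have h4 : n0 * (q0 - 1) = Q - 1 := by
      have h5 : q0 * q0 - 1 = (q0 - 1) * (1 + q0) := by
        obtain ⟨b, rfl⟩ : ∃ b, q0 = b + 1 := ⟨q0 - 1, by omega⟩
        rw [Nat.add_sub_cancel, show (b + 1) * (b + 1) = b * (1 + (b + 1)) + 1 by ring, Nat.add_sub_cancel]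
      rw [h5, ← mul_assoc] at hidx
      exact Nat.eq_of_mul_eq_mul_right (by omega) hidx
    have h5 : n0 * 2 ≤ n0 * (q0 - 1) := Nat.mul_le_mul_left _ (by omega)
    omega

/-- **The core.** -/
theorem five_core {G : Type u} [Group G] [Finite G] {p : ℕ} [hp : Fact p.Prime] (N : Subgroup G) [N.Normal]
    (hc : Subgroup.centralizer (N : Set G) = ⊥) [IsSimpleGroup N] {W : Type*} [Group W] [Finite W]
    {M : CoxeterMatrix (Fin 2)}
    {cs : CoxeterSystem M W} {A : Fin 2 → Fin 2 → ℤ} {h : IsCartan M A} {T : Subgroup N} {n : Fin 2 → N}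
    {X : (Fin 2 → ℤ) → Subgroup N} (R : RGD cs h p T n X) (hG : GG cs h T X = ⊤)
    (hM : 4 ≤ M 0 1) (hq : ∃ i, 2 < Nat.card (X (sr i))) [Fintype ↥(RGD.B cs h T X)]
    (hD : ∀ ξ : N → ℂ, IsIrrCharacter N ξ → ξ ≠ (fun _ => 1) → ∑ b : RGD.B cs h T X, ξ b ≠ 0 → p ∣ charDegree ξ)
    (hidx : (PJ cs h T X {0}).index * (Nat.card (X (sr 0)) * Nat.card (X (sr 1)) - 1) =
      (Nat.card (RGD.Sup X (RGD.Pos cs h)) - 1) * (1 + Nat.card (X (sr 1))))
    (hSt : Nat.card ↥(RGD.Sup X (RGD.Pos cs h)) ∈ charDegrees G) : 5 ≤ (Cfsg.charDegrees G).ncard := by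
  classical
  by_contra h5
  have : Fintype ↥(Gm cs h T X) := Fintype.ofFinite _
  have : Fintype (↥(Gm cs h T X) ⧸ (Hm cs h T X).subgroupOf (Gm cs h T X)) := Fintype.ofFinite _
  have S := Setup.sit R hG
  have hq0 := two_le_card R 0
  have hq1 := two_le_card R 1
  have hQ := le_card_U R hM
  obtain ⟨Q, eQ⟩ : ∃ q, q = Nat.card ↥(RGD.Sup X (RGD.Pos cs h)) := ⟨_, rfl⟩
  have hQ1 : 1 < Q := by
    rw [eQ]
    refine lt_of_lt_of_le ?_ hQ
    have h1 : 2 * 2 ≤ Nat.card ↥(X (sr 0)) * Nat.card ↥(X (sr 1)) := Nat.mul_le_mul hq0 hq1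
    nlinarith only [h1]
  have hpQ : p ∣ Q := by
    obtain ⟨j, hj⟩ := IsPGroup.iff_card.1 R.isPGroup_Upos
    rw [← eQ] at hj
    rcases Nat.eq_zero_or_pos j with rfl | hj0
    · rw [pow_zero] at hj
      omega
    · rw [hj]
      exact dvd_pow_self p (by omega)
  have hpN : p ∣ Nat.card N := by
    rw [eQ] at hpQ
    exact hpQ.trans (Subgroup.card_subgroup_dvd_card _)
  obtain ⟨m, hm, hm1, hpm⟩ := exists_nonlinear N hc hpN
  have hidx' := hidx
  rw [← eQ] at hidx' hSt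
  -- the index
  obtain ⟨t, ht, htn, hnorm⟩ : ∃ t, (Gm cs h T X).index = t ∧
      (t = 1 ∨ (t = 2 ∧ Nat.card ↥(X (sr 0)) = Nat.card ↥(X (sr 1)) ∧ 3 ≤ Nat.card ↥(X (sr 1)))) ∧
      (Gm cs h T X).Normal := by
    rcases Gm_cases R hG with h1 | ⟨h1, h2⟩
    · refine ⟨1, by rw [h1, Subgroup.index_top], Or.inl rfl, ?_⟩
      rw [h1]
      infer_instance
    · refine ⟨2, h1, Or.inr ⟨rfl, h2, ?_⟩, Subgroup.normal_of_index_eq_two h1⟩
      obtain ⟨i, hi⟩ := hq
      have hi2 : i = 0 ∨ i = 1 := by fin_cases i <;> simp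
      rcases hi2 with rfl | rfl
      · omega
      · omega
  have hnum := numbers hq0 hq1 hQ1 hidx' htn
  -- the characters over the constituents
  have key : ∀ χ : ↥(Gm cs h T X) → ℂ, IsIrrCharacter _ χ → χ ≠ (fun _ => 1) →
      classInner (fun g : ↥(Gm cs h T X) => (Nat.card (MulAction.fixedBy (↥(Gm cs h T X) ⧸
        (Hm cs h T X).subgroupOf (Gm cs h T X)) g) : ℂ)) χ ≠ 0 →
      ∃ d ∈ charDegrees G, p ∣ d ∧ d ≠ Q ∧ (d = charDegree χ ∨ (t = 2 ∧ d = 2 * charDegree χ)) := by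
    intro χ hχ h1 h2
    have h3 := S.dvd_degree hD hχ h1 h2
    have h4 := S.degree_lt hχ h1 h2
    obtain ⟨ψ, hψ, hover⟩ := exists_over_subtype (Gm cs h T X) hχ
    obtain ⟨⟨c, hc1⟩, h6⟩ := charDegree_dvd_of_over (Gm cs h T X) hψ hχ hover
    have hpos := charDegree_pos hχ
    rw [hc1, Nat.mul_div_cancel_left _ hpos, ht] at h6
    refine ⟨charDegree ψ, ⟨⟨ψ, hψ⟩, rfl⟩, ?_, ?_, ?_⟩
    · rw [hc1]; exact h3.mul_right c
    · have h7 : c ≤ t := Nat.le_of_dvd (by rcases htn with h | ⟨h, -⟩ <;> omega) h6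
      have h8 : charDegree ψ ≤ t * ((PJ cs h T X {0}).index - 1) := by
        rw [hc1, mul_comm]
        exact Nat.mul_le_mul h7 (by omega)
      omega
    · rcases htn with h | ⟨h, -⟩
      · rw [h, Nat.dvd_one] at h6
        left
        rw [hc1, h6, mul_one]
      · rw [h] at h6
        rcases (Nat.dvd_prime Nat.prime_two).1 h6 with h7 | h7
        · left; rw [hc1, h7, mul_one]
        · right; exact ⟨h, by rw [hc1, h7, mul_comm]⟩
  have heq : ∀ {d d' : ℕ}, d ∈ charDegrees G → d' ∈ charDegrees G → p ∣ d → p ∣ d' → d ≠ Q → d' ≠ Q → d = d' :=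
    fun hd hd' h1 h2 h3 h4 => eq_of_not_five h5 hSt hpQ hm hm1 hpm hd hd' h1 h2 h3 h4
  have pos : ∀ χ : ↥(Gm cs h T X) → ℂ, IsIrrCharacter _ χ → 0 < charDegree χ := fun χ hχ => charDegree_pos hχ
  by_cases hhalf : ∃ χ : ↥(Gm cs h T X) → ℂ, IsIrrCharacter _ χ ∧ χ ≠ (fun _ => 1) ∧
      classInner (fun g : ↥(Gm cs h T X) => (Nat.card (MulAction.fixedBy (↥(Gm cs h T X) ⧸
        (Hm cs h T X).subgroupOf (Gm cs h T X)) g) : ℂ)) χ ≠ 0 ∧
      ∃ d ∈ charDegrees G, p ∣ d ∧ d ≠ Q ∧ d = 2 * charDegree χ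
  · obtain ⟨χ, hχ, h1, h2, d, hd, h3, h4, h6⟩ := hhalf
    refine S.false_of_degrees hG hM hidx (charDegree χ) fun χ' hχ' h1' h2' => ?_
    obtain ⟨d', hd', h3', h4', h6'⟩ := key χ' hχ' h1' h2'
    have h7 := heq hd hd' h3 h3' h4 h4'
    rcases h6' with h8 | ⟨-, h8⟩
    · have h9 : charDegree χ' = 2 * charDegree χ := by omega
      rw [h9]
      exact ⟨dvd_mul_left _ _, le_rfl⟩
    · have h9 : charDegree χ' = charDegree χ := by omega
      rw [h9]
      exact ⟨dvd_rfl, by omega⟩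
  · push Not at hhalf
    by_cases hex : ∃ χ : ↥(Gm cs h T X) → ℂ, IsIrrCharacter _ χ ∧ χ ≠ (fun _ => 1) ∧
      classInner (fun g : ↥(Gm cs h T X) => (Nat.card (MulAction.fixedBy (↥(Gm cs h T X) ⧸
        (Hm cs h T X).subgroupOf (Gm cs h T X)) g) : ℂ)) χ ≠ 0
    · obtain ⟨χ, hχ, h1, h2⟩ := hex
      refine S.false_of_degrees hG hM hidx (charDegree χ) fun χ' hχ' h1' h2' => ?_
      have hone : ∀ χ : ↥(Gm cs h T X) → ℂ, IsIrrCharacter _ χ → χ ≠ (fun _ => 1) →
          classInner (fun g : ↥(Gm cs h T X) => (Nat.card (MulAction.fixedBy (↥(Gm cs h T X) ⧸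
            (Hm cs h T X).subgroupOf (Gm cs h T X)) g) : ℂ)) χ ≠ 0 →
          charDegree χ ∈ charDegrees G ∧ p ∣ charDegree χ ∧ charDegree χ ≠ Q := by
        intro χ hχ h1 h2
        obtain ⟨d, hd, h3, h4, h6⟩ := key χ hχ h1 h2
        rcases h6 with h6 | ⟨-, h6⟩
        · rw [← h6]
          exact ⟨hd, h3, h4⟩
        · exact absurd h6 (hhalf χ hχ h1 h2 d hd h3 h4)
      obtain ⟨a1, a2, a3⟩ := hone χ hχ h1 h2
      obtain ⟨b1, b2, b3⟩ := hone χ' hχ' h1' h2'
      have h7 := heq a1 b1 a2 b2 a3 b3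
      rw [← h7]
      exact ⟨dvd_rfl, by omega⟩
    · push Not at hex
      exact S.false_of_degrees hG hM hidx 1 fun χ' hχ' h1' h2' => absurd (hex χ' hχ' h1') h2'

end Cfsg.Agent.H845.FD.Main
end

-- part: H638/FD/Ext
section
/-!
# Characters with a vector fixed by a Sylow normalizer (helper638)

`N` normal in `G`, `H ⊔ N = ⊤`, `B = N ∩ H`.
* `charDegree_eq` : `χ(1) = [χ_N, θ] |G : I(θ)| θ(1)`;
* `mem_charDegrees` : `[θ_B, 1] = 1`: `|G : I(θ)| θ(1)` is a character degree of `G`;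
* `mem_charDegrees_of_sylow` : the case of the normalizer of a Sylow subgroup of `N`;
* `exists_under_perm` : a nonprincipal constituent of the permutation character on `G / H` lies over some `θ ≠ 1` with
  `∑ b ∈ B, θ b ≠ 0`.
-/

set_option autoImplicit false
set_option linter.unusedSectionVars false

namespace Cfsg.Agent.H638.FD.Ext

open Cfsg Cfsg.Agent.Characters.Core Cfsg.Agent.H672 Cfsg.Agent.H969.TT.TopAbs MulAction
open scoped ComplexConjugate

universe u

variable {G : Type u} [Group G] [Finite G]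

theorem charDegree_eq (N : Subgroup G) [N.Normal] [Fintype N] {χ : G → ℂ} (hχ : IsIrrCharacter G χ)
    {θ : N → ℂ} (hθ : IsIrrCharacter N θ) {e : ℕ} (he : classInner (fun n : N => χ n) θ = e) (he0 : e ≠ 0) :
    charDegree χ = e * ((inertia N θ).index * charDegree θ) := by
  classical
  letI := Fintype.ofFinite G
  have h' : classInner (fun n : N => χ n) θ ≠ 0 := by rw [he]; exact_mod_cast he0
  have key := CharactersDeep.CliffordSum.restrict_eq_smul_sum N hχ hθ h'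
  have key1 := congrFun key 1
  rw [he] at key1
  simp only [Pi.smul_apply, Finset.sum_apply, smul_eq_mul, OneMemClass.coe_one] at key1
  rw [Finset.sum_congr rfl (g := fun _ => θ 1) (by
    intro ψ hψ
    obtain ⟨x, -, rfl⟩ := Finset.mem_image.1 hψ
    simp only [_root_.Function.comp_apply, _root_.map_one]), Finset.sum_const, nsmul_eq_mul, ← coe_charDegree hχ, ← coe_charDegree hθ] at key1
  have hcard := CharactersDeep.CliffordSum.card_conj_mul_card N θ (inertia N θ)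
    (fun g => mem_inertia)
  have hidx : (Finset.univ.image (fun x : G => θ ∘ (MulAut.conjNormal x : MulAut N))).card =
      (inertia N θ).index := by
    have h2 := (inertia N θ).index_mul_card
    have hpos : 0 < Nat.card (inertia N θ) := Nat.card_pos
    exact Nat.eq_of_mul_eq_mul_right hpos (hcard.trans h2.symm)
  rw [hidx] at key1
  exact_mod_cast key1

/-- The permutation character of `G / H` restricted to `N`, `N H = G`. -/
theorem card_fixedBy_eq {N H : Subgroup G} [N.Normal] (hNH : H ⊔ N = ⊤) (y : N) :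
    Nat.card (fixedBy (G ⧸ H) (y : G)) = Nat.card (fixedBy (N ⧸ H.subgroupOf N) y) := by
  have key : ∀ x x' : N, (QuotientGroup.mk (x : G) : G ⧸ H) = QuotientGroup.mk (x' : G) ↔
      (QuotientGroup.mk x : N ⧸ H.subgroupOf N) = QuotientGroup.mk x' := by
    intro x x'
    rw [QuotientGroup.eq, QuotientGroup.eq, Subgroup.mem_subgroupOf]
    rfl
  let f : N ⧸ H.subgroupOf N → G ⧸ H := fun q => Quotient.liftOn' q (fun x : N => (QuotientGroup.mk (x : G) : G ⧸ H))
    (fun x x' hxx => (key x x').2 (QuotientGroup.eq.2 (QuotientGroup.leftRel_apply.1 hxx)))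
  have hf : ∀ x : N, f (QuotientGroup.mk x) = QuotientGroup.mk (x : G) := fun _ => rfl
  have hinj : Function.Injective f := by
    intro a b hab
    obtain ⟨x, rfl⟩ := QuotientGroup.mk_surjective a
    obtain ⟨x', rfl⟩ := QuotientGroup.mk_surjective b
    exact (key x x').1 hab
  have hsurj : Function.Surjective f := by
    intro a
    obtain ⟨g, rfl⟩ := QuotientGroup.mk_surjective a
    have hg : g ∈ ((N ⊔ H : Subgroup G) : Set G) := by
      rw [sup_comm, hNH]; exact Subgroup.mem_top g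
    rw [Subgroup.normal_mul] at hg
    obtain ⟨x, hx, z, hz, rfl⟩ := Set.mem_mul.1 hg
    refine ⟨QuotientGroup.mk ⟨x, hx⟩, ?_⟩
    rw [hf, QuotientGroup.eq]
    have : x⁻¹ * (x * z) = z := by group
    change x⁻¹ * (x * z) ∈ H
    rw [this]; exact hz
  have hsm : ∀ q : N ⧸ H.subgroupOf N, f (y • q) = (y : G) • f q := by
    intro q
    obtain ⟨x, rfl⟩ := QuotientGroup.mk_surjective q
    rfl
  refine (Nat.card_congr (Equiv.ofBijective (fun q : fixedBy (N ⧸ H.subgroupOf N) y =>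
    (⟨f q.1, by rw [mem_fixedBy, ← hsm, q.2]⟩ : fixedBy (G ⧸ H) (y : G))) ⟨?_, ?_⟩)).symm
  · intro a b hab
    exact Subtype.ext (hinj (congrArg Subtype.val hab))
  · rintro ⟨a, ha⟩
    obtain ⟨q, rfl⟩ := hsurj a
    refine ⟨⟨q, ?_⟩, rfl⟩
    rw [mem_fixedBy]
    apply hinj
    rw [hsm]; exact ha

/-- Frobenius reciprocity for the restriction of the permutation character on `G / H` to `N`. -/
theorem inner_perm {N H : Subgroup G} [N.Normal] [Fintype N] (hNH : H ⊔ N = ⊤) [Fintype (H.subgroupOf N)]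
    {θ : N → ℂ} (hcl : IsClassFunction N θ) :
    classInner (fun y : N => (Nat.card (fixedBy (G ⧸ H) (y : G)) : ℂ)) θ =
      (Nat.card (H.subgroupOf N) : ℂ)⁻¹ * conj (∑ b : H.subgroupOf N, θ b) := by
  classical
  have h1 := frob (H.subgroupOf N) hcl
  have h2 : classInner (fun y : N => (Nat.card (fixedBy (G ⧸ H) (y : G)) : ℂ)) θ =
      (Nat.card N : ℂ)⁻¹ * conj (∑ y : N, θ y * (Nat.card (fixedBy (N ⧸ H.subgroupOf N) y) : ℂ)) := by
    rw [classInner_def, map_sum]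
    congr 1
    refine Finset.sum_congr rfl fun y _ => ?_
    rw [card_fixedBy_eq hNH, map_mul, Complex.conj_natCast, mul_comm]
  rw [h2, h1, map_mul, Complex.conj_natCast, ← mul_assoc]
  congr 1
  have h3 : (Nat.card N : ℂ) = (H.subgroupOf N).index * (Nat.card (H.subgroupOf N) : ℂ) := by
    rw [← (H.subgroupOf N).index_mul_card]; push_cast; ring
  have h4 : ((H.subgroupOf N).index : ℂ) ≠ 0 := Nat.cast_ne_zero.2 Subgroup.index_ne_zero_of_finite
  have h5 : (Nat.card (H.subgroupOf N) : ℂ) ≠ 0 := card_ne_zero_complex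
  rw [h3]
  field_simp

/-- the decomposition of the permutation character on `G / H` -/
theorem exists_decomp (H : Subgroup G) [Fintype G] [Fintype (IrrCharacter G)] :
    ∃ a : IrrCharacter G → ℕ, (fun g : G => (Nat.card (fixedBy (G ⧸ H) g) : ℂ)) = ∑ χ, a χ • (χ : G → ℂ) ∧
      ∀ χ : IrrCharacter G, classInner (fun g : G => (Nat.card (fixedBy (G ⧸ H) g) : ℂ)) (χ : G → ℂ) = a χ := by
  have : Fintype (G ⧸ H) := Fintype.ofFinite _
  obtain ⟨a, ha⟩ := exists_nat_comb (isCharacter_perm (Y := G) (Ω := G ⧸ H))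
  refine ⟨a, ha, fun χ => ?_⟩
  rw [ha]
  exact classInner_sum_nsmul_irr a χ

/-- restriction to `N` -/
theorem inner_restrict (N H : Subgroup G) [Fintype N] [Fintype (IrrCharacter G)] {a : IrrCharacter G → ℕ}
    (ha : (fun g : G => (Nat.card (fixedBy (G ⧸ H) g) : ℂ)) = ∑ χ, a χ • (χ : G → ℂ)) (θ : N → ℂ) :
    classInner (fun y : N => (Nat.card (fixedBy (G ⧸ H) (y : G)) : ℂ)) θ =
      ∑ χ, (a χ : ℂ) * classInner (fun y : N => (χ : G → ℂ) y) θ := by
  have h1 : (fun y : N => (Nat.card (fixedBy (G ⧸ H) (y : G)) : ℂ)) =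
      fun y : N => ∑ χ : IrrCharacter G, (a χ : ℂ) * (χ : G → ℂ) y := by
    funext y
    have h2 := congrFun ha (y : G)
    simp only [Finset.sum_apply, Pi.smul_apply, nsmul_eq_mul] at h2
    exact h2
  rw [h1]
  simp only [classInner_def]
  simp_rw [Finset.sum_mul, Finset.mul_sum]
  rw [Finset.sum_comm]
  refine Finset.sum_congr rfl fun χ _ => Finset.sum_congr rfl fun y _ => ?_
  ring

theorem mem_charDegrees {N H : Subgroup G} [N.Normal] (hNH : H ⊔ N = ⊤) [Fintype (H.subgroupOf N)]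
    {θ : N → ℂ} (hθ : IsIrrCharacter N θ) (h1 : ∑ b : H.subgroupOf N, θ b = (Nat.card (H.subgroupOf N) : ℂ)) :
    (inertia N θ).index * charDegree θ ∈ charDegrees G := by
  classical
  letI := Fintype.ofFinite N
  letI := Fintype.ofFinite G
  have : Fintype (IrrCharacter G) := @Fintype.ofFinite _ finite_irr
  obtain ⟨a, ha, ha'⟩ := exists_decomp H
  have h2 := inner_restrict N H ha θ
  have h5 : (Nat.card (H.subgroupOf N) : ℂ) ≠ 0 := card_ne_zero_complex
  rw [inner_perm hNH (isIrr_isClassFunction hθ), h1, Complex.conj_natCast, inv_mul_cancel₀ h5] at h2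
  have hex : ∀ χ : IrrCharacter G, ∃ k : ℕ, classInner (fun y : N => (χ : G → ℂ) y) θ = k := fun χ =>
    classInner_isNat (isCharacter_comp N.subtype (isIrr_isCharacter χ.2)) (isIrr_isCharacter hθ)
  choose k hk using hex
  have h3 : ∑ χ, a χ * k χ = 1 := by
    have h4 : ((∑ χ, a χ * k χ : ℕ) : ℂ) = 1 := by
      rw [h2]; push_cast
      exact Finset.sum_congr rfl fun χ _ => by rw [hk]
    exact_mod_cast h4
  obtain ⟨χ, -, hχ⟩ : ∃ χ ∈ (Finset.univ : Finset (IrrCharacter G)), a χ * k χ ≠ 0 := by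
    apply Finset.exists_ne_zero_of_sum_ne_zero
    rw [h3]; norm_num
  have h4 : a χ * k χ ≤ 1 := by
    rw [← h3]
    exact Finset.single_le_sum (f := fun χ => a χ * k χ) (fun _ _ => Nat.zero_le _) (Finset.mem_univ χ)
  have h6 : k χ = 1 := by
    have h7 : a χ * k χ = 1 := by omega
    exact Nat.eq_one_of_mul_eq_one_left h7
  refine ⟨χ, ?_⟩
  rw [charDegree_eq N χ.2 hθ (e := 1) (by rw [hk, h6]) one_ne_zero, one_mul]

/-- **Extension lemma.** -/
theorem mem_charDegrees_of_sylow {p : ℕ} [Fact p.Prime] (N : Subgroup G) [N.Normal] (P : Sylow p N)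
    {θ : N → ℂ} (hθ : IsIrrCharacter N θ)
    (h1 : ∑ᶠ b : ↥(Subgroup.normalizer ((P : Subgroup N) : Set N)), θ b =
      (Nat.card ↥(Subgroup.normalizer ((P : Subgroup N) : Set N)) : ℂ)) :
    (inertia N θ).index * charDegree θ ∈ charDegrees G := by
  classical
  set H := Subgroup.normalizer (((P : Subgroup N).map N.subtype : Subgroup G) : Set G) with hH
  have hsup : H ⊔ N = ⊤ := Sylow.normalizer_sup_eq_top P
  have hB : H.subgroupOf N = Subgroup.normalizer ((P : Subgroup N) : Set N) := by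
    ext x
    rw [Subgroup.mem_subgroupOf, hH, Subgroup.mem_normalizer_iff, Subgroup.mem_normalizer_iff]
    have hm : ∀ y : N, (y : G) ∈ (P : Subgroup N).map N.subtype ↔ y ∈ (P : Subgroup N) := by
      intro y
      constructor
      · rintro ⟨z, hz, e⟩
        have : z = y := Subtype.ext e
        rwa [← this]
      · intro hy
        exact ⟨y, hy, rfl⟩
    constructor
    · intro h y
      have := h (y : G)
      rw [hm y] at this
      rw [this, ← hm]
      rfl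
    · intro h y
      by_cases hy : y ∈ N
      · have := h ⟨y, hy⟩
        rw [← hm ⟨y, hy⟩, ← hm] at this
        exact this
      · constructor
        · rintro ⟨z, -, e⟩
          exact absurd (e ▸ z.2) hy
        · rintro ⟨z, -, e⟩
          exfalso
          apply hy
          have h2 : y = (x : G)⁻¹ * z * x := by
            have : (z : G) = (x : G) * y * (x : G)⁻¹ := e
            rw [this]; group
          rw [h2]
          exact mul_mem (mul_mem (inv_mem x.2) z.2) x.2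
  have : Fintype (H.subgroupOf N) := Fintype.ofFinite _
  refine mem_charDegrees hsup hθ ?_
  rw [← finsum_eq_sum_of_fintype]
  rw [hB]
  exact h1

/-- Nonprincipal constituents of the permutation character on `G / H`. -/
theorem exists_under_perm {N H : Subgroup G} [N.Normal] (hNH : H ⊔ N = ⊤) [Fintype (H.subgroupOf N)] [Fintype G]
    {χ : G → ℂ} (hχ : IsIrrCharacter G χ) (hχ1 : χ ≠ fun _ => 1)
    (h1 : classInner (fun g : G => (Nat.card (fixedBy (G ⧸ H) g) : ℂ)) χ ≠ 0) :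
    ∃ θ : N → ℂ, IsIrrCharacter N θ ∧ Over N.subtype χ θ ∧ (θ ≠ fun _ => 1) ∧ ∑ b : H.subgroupOf N, θ b ≠ 0 := by
  classical
  letI := Fintype.ofFinite N
  have : Fintype (IrrCharacter G) := @Fintype.ofFinite _ finite_irr
  have : Fintype (IrrCharacter N) := @Fintype.ofFinite _ finite_irr
  obtain ⟨a, ha, ha'⟩ := exists_decomp H
  set X : IrrCharacter G := ⟨χ, hχ⟩ with hX
  have haX : a X ≠ 0 := by
    intro h2
    apply h1
    have h3 := ha' X
    rw [h2, Nat.cast_zero] at h3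
    exact h3
  have hex : ∀ (ξ : IrrCharacter G) (θ : IrrCharacter N), ∃ k : ℕ, classInner (fun y : N => (ξ : G → ℂ) y) (θ : N → ℂ) = k :=
    fun ξ θ => classInner_isNat (isCharacter_comp N.subtype (isIrr_isCharacter ξ.2)) (isIrr_isCharacter θ.2)
  choose k hk using hex
  have hres : ∀ θ : IrrCharacter N, classInner (fun y : N => (Nat.card (fixedBy (G ⧸ H) (y : G)) : ℂ)) (θ : N → ℂ) =
      ((∑ ξ, a ξ * k ξ θ : ℕ) : ℂ) := by
    intro θ
    rw [inner_restrict N H ha]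
    push_cast
    exact Finset.sum_congr rfl fun ξ _ => by rw [hk]
  -- the trivial characters
  set T : IrrCharacter N := ⟨fun _ => 1, isIrr_one⟩ with hT
  set E : IrrCharacter G := ⟨fun _ => 1, isIrr_one⟩ with hE
  have hcl1 : IsClassFunction N (T : N → ℂ) := isIrr_isClassFunction T.2
  have h5 : (Nat.card (H.subgroupOf N) : ℂ) ≠ 0 := card_ne_zero_complex
  have hT1 : ∑ ξ, a ξ * k ξ T = 1 := by
    have h2 := hres T
    rw [inner_perm hNH hcl1] at h2
    have h3 : ∑ b : H.subgroupOf N, (T : N → ℂ) b = (Nat.card (H.subgroupOf N) : ℂ) := by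
      rw [hT]
      simp only [Nat.card_eq_fintype_card, _root_.Finset.sum_const, _root_.Finset.card_univ, _root_.nsmul_eq_mul, _root_.mul_one]
    rw [h3, Complex.conj_natCast, inv_mul_cancel₀ h5] at h2
    exact_mod_cast h2.symm
  have hE1 : k E T = 1 := by
    have h2 := hk E T
    have h3 : classInner (fun y : N => (E : G → ℂ) y) (T : N → ℂ) = 1 := by
      have h4 := classInner_irr_self T.2
      exact h4
    rw [h3] at h2
    exact_mod_cast h2.symm
  have haE : a E = 1 := by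
    have h2 := ha' E
    have : Fintype H := Fintype.ofFinite _
    have h3 := frob H (χ := fun _ : G => (1 : ℂ)) (fun _ _ => rfl)
    have h4 : classInner (fun g : G => (Nat.card (fixedBy (G ⧸ H) g) : ℂ)) (E : G → ℂ) = 1 := by
      rw [classInner_def]
      have h6 : ∑ y : G, (Nat.card (fixedBy (G ⧸ H) y) : ℂ) * conj ((E : G → ℂ) y) =
          ∑ y : G, (1 : ℂ) * (Nat.card (fixedBy (G ⧸ H) y) : ℂ) := by
        refine Finset.sum_congr rfl fun y _ => ?_
        have h7 : (E : G → ℂ) y = 1 := rfl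
        rw [h7, map_one]; ring
      rw [h6, h3]
      simp only [Finset.sum_const, Finset.card_univ, nsmul_eq_mul, mul_one]
      rw [← Nat.card_eq_fintype_card, ← Nat.cast_mul, H.index_mul_card]
      exact inv_mul_cancel₀ card_ne_zero_complex
    rw [h4] at h2
    exact_mod_cast h2.symm
  have hXE : X ≠ E := by
    intro h2
    apply hχ1
    exact congrArg Subtype.val h2
  have hkX : k X T = 0 := by
    have h2 : a X * k X T + a E * k E T ≤ 1 := by
      rw [← hT1, ← Finset.add_sum_erase _ _ (Finset.mem_univ E), add_comm]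
      refine Nat.add_le_add_left ?_ _
      exact Finset.single_le_sum (f := fun ξ => a ξ * k ξ T) (fun _ _ => Nat.zero_le _)
        (Finset.mem_erase.2 ⟨hXE, Finset.mem_univ X⟩)
    rw [haE, hE1] at h2
    have h3 : a X * k X T = 0 := by omega
    exact (Nat.mul_eq_zero.1 h3).resolve_left haX
  -- a constituent
  obtain ⟨θ, hθ, hov⟩ := exists_under (f := N.subtype) hχ
  set Θ : IrrCharacter N := ⟨θ, hθ⟩ with hΘ
  have hov' : classInner (fun n : N => χ n) θ ≠ 0 := (over_subtype_iff N χ θ).1 hov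
  have hkΘ : k X Θ ≠ 0 := by
    intro h2
    apply hov'
    have h3 := hk X Θ
    rw [h2, Nat.cast_zero] at h3
    exact h3
  refine ⟨θ, hθ, hov, ?_, ?_⟩
  · intro h2
    apply hkΘ
    have : Θ = T := Subtype.ext h2
    rw [this]; exact hkX
  · intro h2
    have h3 := hres Θ
    rw [inner_perm hNH (isIrr_isClassFunction hθ)] at h3
    have h4 : ∑ b : H.subgroupOf N, (Θ : N → ℂ) b = 0 := h2
    rw [h4, map_zero, mul_zero] at h3
    have h6 : ∑ ξ, a ξ * k ξ Θ = 0 := by exact_mod_cast h3.symm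
    have h7 := (Finset.sum_eq_zero_iff.1 h6) X (Finset.mem_univ _)
    exact (mul_ne_zero haX hkΘ) h7

end Cfsg.Agent.H638.FD.Ext
end

-- part: H845/FD/RankTwo
section
/-!
# Almost simple groups with socle of type `B₂`, `G₂` have at least five character degrees: final form (helper845)
-/

set_option autoImplicit false
set_option linter.unusedSectionVars false

namespace Cfsg.Agent.H845.FD.RankTwo

open CoxeterSystem Cfsg.Agent.ChevalleyStructure.CoxeterGeom Cfsg.Agent.Tits.Roots Cfsg.Agent.Tits.Core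
  Cfsg.Agent.Tits.Exchange Cfsg.Agent.Nodes.Reps Cfsg.Agent.Nodes.BNOf Cfsg.Agent.Nodes.StabComb
  Cfsg.Agent.Nodes.Bruhat Cfsg.Agent.Nodes.LeviDec Cfsg.Agent.Omega.EH3.Kf.Lev
open Cfsg.Agent.H638.FD

universe u

theorem five_rank_two {G : Type u} [Group G] [Finite G] {p : ℕ} [Fact p.Prime] (N : Subgroup G) [N.Normal]
    (hc : Subgroup.centralizer (N : Set G) = ⊥) [IsSimpleGroup N] {W : Type*} [Group W] [Finite W] {M : CoxeterMatrix (Fin 2)}
    {cs : CoxeterSystem M W} {A : Fin 2 → Fin 2 → ℤ} {h : IsCartan M A} {T : Subgroup N} {n : Fin 2 → N}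
    {X : (Fin 2 → ℤ) → Subgroup N} (R : RGD cs h p T n X) (hG : GG cs h T X = ⊤) (hC : CommGen cs h X)
    (hM : 4 ≤ M 0 1) (hq : ∃ i, 2 < Nat.card (X (sr i))) (θ : N → ℂ) (hθ : IsSt p θ) : 5 ≤ (Cfsg.charDegrees G).ncard := by
  classical
  have : Fintype ↥(RGD.B cs h T X) := Fintype.ofFinite _
  refine Main.five_core N hc R hG hM hq (fun ξ hξ h1 hB => H152.PS.dvd_degree R hG hC hξ h1 hB)
    (H497.CD.rank_two_index R hG) ?_
  obtain ⟨S, hS⟩ := R.isPGroup_Upos.exists_le_sylow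
  have h1 := Nodes.NormalForm.eq_U_of_isPGroup R S.isPGroup' hS (by rw [hG]; exact le_top)
  have h2 := Ext.mem_charDegrees_of_sylow N S hθ.1 (hθ.2.2 S).2
  have h3 : H672.inertia N θ = ⊤ := by
    rw [eq_top_iff]
    intro g _
    rw [H672.mem_inertia]
    exact funext fun s => hθ.2.1 _ s
  have h4 : Cfsg.charDegree θ = Nat.card S := H672.charDegree_of_eq (hθ.2.2 S).1
  rw [h3, Subgroup.index_top, one_mul, h4] at h2
  have h5 : Nat.card S = Nat.card ↥(RGD.Sup X (RGD.Pos cs h)) := by rw [← h1]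
  rwa [h5] at h2

end Cfsg.Agent.H845.FD.RankTwo
end

private theorem dce_704dcbdd96d2 : _root_.True := by
  try have : _root_.True := by simp only [_root_.Cfsg.Agent.Nodes.LeviDec.VJ.congr_simp]
  try have : _root_.True := by simp only [_root_.Cfsg.Agent.H845.FD.Setup.K0.congr_simp]
  try have : _root_.True := by simp only [_root_.Cfsg.Agent.H845.FD.Setup.FixG.congr_simp]
  exact _root_.True.intro
end

-- part: H69/OctChar
section
set_option linter.all false
open scoped Cfsg.Agent.FastGrp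

/-!
# Five character degrees from two transitive actions (helper69)
-/

set_option autoImplicit false
set_option linter.unusedSectionVars false

namespace Cfsg.Agent.H69.OctChar

open Cfsg MulAction
open Cfsg.Agent.PermutationGroups.MultFree (exists_decomp isIrr_one)

universe u

section one

variable {G : Type u} [Group G] [Fintype G] {Ω : Type*} [Fintype Ω] [MulAction G Ω] [IsPretransitive G Ω]

/-- the constituents are small -/
theorem degree_lt (a : Ω) {χ : G → ℂ} (hχ : IsIrrCharacter G χ) (h1 : χ ≠ fun _ => 1)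
    (h : classInner (fun g : G => (Nat.card (fixedBy Ω g) : ℂ)) χ ≠ 0) : charDegree χ < Nat.card Ω := by
  classical
  obtain ⟨m, hm, hone, -, hcard⟩ := exists_decomp (G := G) a
  have hmχ : m ⟨χ, hχ⟩ ≠ 0 := by
    intro h0
    apply h
    have := hm ⟨χ, hχ⟩
    rw [h0, Nat.cast_zero] at this
    exact this
  set ψ₀ : IrrCharacter G := ⟨_, isIrr_one⟩ with hψ₀
  have hne : (⟨χ, hχ⟩ : IrrCharacter G) ≠ ψ₀ := fun h0 => h1 (congrArg Subtype.val h0)
  have hmem : (⟨χ, hχ⟩ : IrrCharacter G) ∈ m.support := Finsupp.mem_support_iff.2 hmχ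
  have hmem0 : ψ₀ ∈ m.support.erase ⟨χ, hχ⟩ := Finset.mem_erase.2 ⟨hne.symm, Finsupp.mem_support_iff.2 (by
    rw [hone]; exact one_ne_zero)⟩
  have hc : (Nat.card Ω : ℂ) = ((∑ ψ ∈ m.support, m ψ * charDegree (ψ : G → ℂ) : ℕ) : ℂ) := by
    rw [hcard]
    push_cast
    refine Finset.sum_congr rfl fun ψ _ => ?_
    rw [Blocks.Basic.irr_one_eq_charDegree ψ.2]
  have hc' : Nat.card Ω = ∑ ψ ∈ m.support, m ψ * charDegree (ψ : G → ℂ) := by exact_mod_cast hc
  rw [hc', ← Finset.add_sum_erase _ _ hmem, ← Finset.add_sum_erase _ _ hmem0]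
  have h2 : charDegree χ ≤ m ⟨χ, hχ⟩ * charDegree χ := Nat.le_mul_of_pos_left _ (Nat.pos_of_ne_zero hmχ)
  have h3 : 0 < m ψ₀ * charDegree (ψ₀ : G → ℂ) :=
    Nat.mul_pos (by rw [hone]; exact one_pos) (Blocks.Basic.charDegree_pos ψ₀.2)
  show charDegree χ < m ⟨χ, hχ⟩ * charDegree χ + _
  omega

/-- a large constituent -/
theorem exists_large (a : Ω) {r D : ℕ}
    (hr : Nat.card (orbitRel.Quotient (stabilizer G a) Ω) ≤ r + 1) (hD : r * D + 1 < Nat.card Ω) :
    ∃ χ : IrrCharacter G, D < charDegree (χ : G → ℂ) ∧ charDegree (χ : G → ℂ) < Nat.card Ω := by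
  classical
  obtain ⟨m, hm, hone, hsq, hcard⟩ := exists_decomp (G := G) a
  by_contra hcon
  push Not at hcon
  set ψ₀ : IrrCharacter G := ⟨_, isIrr_one⟩ with hψ₀
  have hmem0 : ψ₀ ∈ m.support := Finsupp.mem_support_iff.2 (by rw [hone]; exact one_ne_zero)
  have hc : (Nat.card Ω : ℂ) = ((∑ ψ ∈ m.support, m ψ * charDegree (ψ : G → ℂ) : ℕ) : ℂ) := by
    rw [hcard]
    push_cast
    refine Finset.sum_congr rfl fun ψ _ => ?_
    rw [Blocks.Basic.irr_one_eq_charDegree ψ.2]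
  have hc' : Nat.card Ω = ∑ ψ ∈ m.support, m ψ * charDegree (ψ : G → ℂ) := by exact_mod_cast hc
  have h1 : charDegree (ψ₀ : G → ℂ) = 1 := Blocks.Basic.charDegree_of_eq (by simp [hψ₀])
  rw [← Finset.add_sum_erase _ _ hmem0, hone, one_mul, h1] at hc'
  rw [← Finset.add_sum_erase _ _ hmem0, hone, one_pow] at hsq
  have h2 : ∑ ψ ∈ m.support.erase ψ₀, m ψ * charDegree (ψ : G → ℂ) ≤
      ∑ ψ ∈ m.support.erase ψ₀, m ψ ^ 2 * D := by
    refine Finset.sum_le_sum fun ψ hψ => ?_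
    have h3 : classInner (fun g : G => (Nat.card (fixedBy Ω g) : ℂ)) ψ ≠ 0 := by
      rw [hm ψ, Nat.cast_ne_zero]
      exact Finsupp.mem_support_iff.1 (Finset.mem_of_mem_erase hψ)
    have h4 := degree_lt a ψ.2 (fun h0 => Finset.ne_of_mem_erase hψ (Subtype.ext h0)) h3
    have h5 : charDegree (ψ : G → ℂ) ≤ D := by
      by_contra h6
      exact absurd (hcon ψ (not_le.1 h6)) (not_le.2 h4)
    calc m ψ * charDegree (ψ : G → ℂ) ≤ m ψ * D := Nat.mul_le_mul_left _ h5
      _ ≤ m ψ ^ 2 * D := Nat.mul_le_mul_right _ (Nat.le_self_pow two_ne_zero _)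
  rw [← Finset.sum_mul] at h2
  have h3 : ∑ ψ ∈ m.support.erase ψ₀, m ψ ^ 2 ≤ r := by omega
  have h4 := Nat.mul_le_mul_right D h3
  omega

/-- two points of the action of a coset of a transitive normal subgroup -/
theorem sum_coset (x₀ : Ω) (M : Subgroup G) (hM : IsPretransitive M Ω) [Fintype M] (g : G) :
    ∑ m : M, Nat.card (fixedBy Ω (g * (m : G))) = Nat.card M := by
  classical
  have key : ∀ x : Ω, Nat.card {m : M // (m : G) • x = g⁻¹ • x} = Nat.card (stabilizer M x) := by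
    intro x
    obtain ⟨m₀, hm₀⟩ := hM.exists_smul_eq x (g⁻¹ • x)
    refine Nat.card_congr
      { toFun := fun m => ⟨m₀⁻¹ * m.1, ?_⟩
        invFun := fun m => ⟨m₀ * m.1, ?_⟩
        left_inv := fun m => Subtype.ext (by simp)
        right_inv := fun m => Subtype.ext (by simp) }
    · rw [mem_stabilizer_iff, mul_smul, inv_smul_eq_iff, hm₀]
      exact m.2
    · have h1 : (m : M) • x = x := m.2
      show (m₀ * (m : M)) • x = g⁻¹ • x
      rw [mul_smul, h1, hm₀]
  have e1 : ∀ m : M, Nat.card (fixedBy Ω (g * (m : G))) = ∑ x : Ω, if (m : G) • x = g⁻¹ • x then 1 else 0 := by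
    intro m
    rw [Finset.sum_boole, Nat.card_eq_fintype_card, Fintype.card_subtype]
    simp only [Nat.cast_id]
    congr 1
    ext x
    simp only [Finset.mem_filter, Finset.mem_univ, true_and, mem_fixedBy]
    rw [mul_smul, eq_inv_smul_iff]
  have e2 : ∀ x : Ω, (∑ m : M, if (m : G) • x = g⁻¹ • x then 1 else 0) = Nat.card (stabilizer M x) := by
    intro x
    rw [← key x, Finset.sum_boole, Nat.card_eq_fintype_card, Fintype.card_subtype]
    rfl
  rw [Finset.sum_congr rfl fun m _ => e1 m, Finset.sum_comm, Finset.sum_congr rfl fun x _ => e2 x]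
  have e3 : ∀ x : Ω, Nat.card (stabilizer M x) = Nat.card (stabilizer M x₀) := by
    intro x
    obtain ⟨m, rfl⟩ := hM.exists_smul_eq x₀ x
    exact (Nat.card_congr (stabilizerEquivStabilizer (G := M) (g := m) (a := x₀) (b := m • x₀) rfl).toEquiv).symm
  rw [Finset.sum_congr rfl fun x _ => e3 x, Finset.sum_const, Finset.card_univ, smul_eq_mul]
  have e4 := (stabilizer M x₀).card_mul_index
  rw [index_stabilizer_of_transitive, Nat.card_eq_fintype_card (α := Ω)] at e4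
  rw [mul_comm, e4]

/-- a linear constituent is principal if a perfect subgroup is transitive -/
theorem charDegree_ne_one (a : Ω) (M : Subgroup G) (hM : IsPretransitive M Ω) (hMc : M ≤ commutator G)
    {χ : G → ℂ} (hχ : IsIrrCharacter G χ) (h1 : χ ≠ fun _ => 1)
    (h : classInner (fun g : G => (Nat.card (fixedBy Ω g) : ℂ)) χ ≠ 0) : charDegree χ ≠ 1 := by
  classical
  intro hd
  have h2 : χ 1 = 1 := by
    rw [Blocks.Basic.irr_one_eq_charDegree hχ, hd, Nat.cast_one]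
  obtain ⟨f, hf⟩ := Characters.Linear.exists_hom_of_isIrrCharacter hχ h2
  have hker : ∀ m ∈ M, f m = 1 := fun m hm => by
    have := Abelianization.commutator_subset_ker f (hMc hm)
    rwa [MonoidHom.mem_ker] at this
  have hmul : ∀ g : G, ∀ m ∈ M, χ (g * m) = χ g := by
    intro g m hm
    rw [hf]
    simp [map_mul, hker m hm]
  apply h
  have h0 : (Nat.card M : ℂ) ≠ 0 := by exact_mod_cast Nat.card_pos.ne'
  have h3 : classInner (fun _ : G => (1 : ℂ)) χ = 0 :=
    Characters.Core.classInner_irr_ne isIrr_one hχ h1.symm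
  have key : (Nat.card M : ℂ) * ∑ g : G, (Nat.card (fixedBy Ω g) : ℂ) * (starRingEnd ℂ) (χ g) =
      (Nat.card M : ℂ) * ∑ g : G, 1 * (starRingEnd ℂ) (χ g) := by
    have e1 : ∀ m : M, ∑ g : G, (Nat.card (fixedBy Ω g) : ℂ) * (starRingEnd ℂ) (χ g) =
        ∑ g : G, (Nat.card (fixedBy Ω (g * (m : G))) : ℂ) * (starRingEnd ℂ) (χ g) := by
      intro m
      rw [← _root_.Equiv.sum_comp (_root_.Equiv.mulRight (m : G))]
      refine Finset.sum_congr rfl fun g _ => ?_
      rw [_root_.Equiv.coe_mulRight, hmul g m m.2]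
    have e2 : (Nat.card M : ℂ) * ∑ g : G, (Nat.card (fixedBy Ω g) : ℂ) * (starRingEnd ℂ) (χ g) =
        ∑ m : M, ∑ g : G, (Nat.card (fixedBy Ω (g * (m : G))) : ℂ) * (starRingEnd ℂ) (χ g) := by
      rw [← Finset.sum_congr rfl fun m _ => e1 m, Finset.sum_const, Finset.card_univ, nsmul_eq_mul,
        Nat.card_eq_fintype_card]
    rw [e2, Finset.sum_comm, Finset.mul_sum]
    refine Finset.sum_congr rfl fun g _ => ?_
    rw [← Finset.sum_mul, one_mul]
    congr 1
    rw [← sum_coset a M hM g]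
    push_cast
    rfl
  have h4 := mul_left_cancel₀ h0 key
  rw [Characters.Core.classInner_def] at h3 ⊢
  rw [h4, h3]

end one

/-- **Five degrees.** -/
theorem five {G : Type u} [Group G] [Finite G] (M : Subgroup G) (hMc : M ≤ commutator G)
    {Ω₁ Ω₂ : Type*} [Finite Ω₁] [Finite Ω₂] [MulAction G Ω₁] [MulAction G Ω₂]
    (hM₁ : IsPretransitive M Ω₁) (hT₂ : IsPretransitive G Ω₂) (a₁ : Ω₁) (a₂ : Ω₂) {r Q : ℕ}
    (hr : Nat.card (orbitRel.Quotient (stabilizer G a₂) Ω₂) ≤ r + 1)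
    (hsub : ∀ f : ℕ, ∃ b : Ω₁, b ≠ a₁ ∧ Nat.card (orbit (stabilizer G a₁) b) ≠ f)
    (h12 : r * Nat.card Ω₁ + 1 < Nat.card Ω₂ + r) (h2Q : Nat.card Ω₂ ≤ Q)
    (hQ : Q ∈ charDegrees G) : 5 ≤ (charDegrees G).ncard := by
  classical
  have : Fintype G := Fintype.ofFinite G
  have : Fintype Ω₁ := Fintype.ofFinite Ω₁
  have : Fintype Ω₂ := Fintype.ofFinite Ω₂
  have hT₁ : IsPretransitive G Ω₁ := ⟨fun x y => by
    obtain ⟨m, hm⟩ := hM₁.exists_smul_eq x y
    exact ⟨m, hm⟩⟩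
  have hn₁ : 0 < Nat.card Ω₁ := Nat.card_pos_iff.2 ⟨⟨a₁⟩, inferInstance⟩
  -- the large degree
  obtain ⟨χ₂, hχ₂, hχ₂'⟩ := exists_large (G := G) a₂ (r := r) (D := Nat.card Ω₁ - 1) hr (by
    have : r * (Nat.card Ω₁ - 1) + r = r * Nat.card Ω₁ := by
      rw [← Nat.mul_succ, Nat.succ_eq_add_one, Nat.sub_add_cancel hn₁]
    omega)
  -- two small degrees
  have hex : ∃ α : IrrCharacter G, (α : G → ℂ) ≠ (fun _ => 1) ∧
      classInner (fun g : G => (Nat.card (fixedBy Ω₁ g) : ℂ)) α ≠ 0 ∧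
      ∃ β : IrrCharacter G, (β : G → ℂ) ≠ (fun _ => 1) ∧
      classInner (fun g : G => (Nat.card (fixedBy Ω₁ g) : ℂ)) β ≠ 0 ∧
      charDegree (α : G → ℂ) ≠ charDegree (β : G → ℂ) := by
    by_contra hcon
    push Not at hcon
    have hall : ∃ f : ℕ, ∀ χ : G → ℂ, IsIrrCharacter G χ → χ ≠ (fun _ => 1) →
        classInner (fun g : G => (Nat.card (fixedBy Ω₁ g) : ℂ)) χ ≠ 0 → χ 1 = f := by
      by_cases h : ∃ α : IrrCharacter G, (α : G → ℂ) ≠ (fun _ => 1) ∧
          classInner (fun g : G => (Nat.card (fixedBy Ω₁ g) : ℂ)) α ≠ 0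
      · obtain ⟨α, hα1, hα2⟩ := h
        refine ⟨charDegree (α : G → ℂ), fun χ hχ h1 h2 => ?_⟩
        rw [Blocks.Basic.irr_one_eq_charDegree hχ, hcon α hα1 hα2 ⟨χ, hχ⟩ h1 h2]
      · push Not at h
        exact ⟨0, fun χ hχ h1 h2 => absurd (h ⟨χ, hχ⟩ h1) h2⟩
    obtain ⟨f, hf⟩ := hall
    obtain ⟨b, hb, hbf⟩ := hsub f
    exact hbf ((PermutationGroups.MultFree.main_a a₁ f hf).2 b hb)
  obtain ⟨α, hα1, hα2, β, hβ1, hβ2, hne⟩ := hex
  have hα3 := degree_lt a₁ α.2 hα1 hα2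
  have hβ3 := degree_lt a₁ β.2 hβ1 hβ2
  have hα4 := charDegree_ne_one a₁ M hM₁ hMc α.2 hα1 hα2
  have hβ4 := charDegree_ne_one a₁ M hM₁ hMc β.2 hβ1 hβ2
  have hα5 := Blocks.Basic.charDegree_pos α.2
  have hβ5 := Blocks.Basic.charDegree_pos β.2
  have h1mem : 1 ∈ charDegrees G := ⟨⟨_, isIrr_one⟩, Blocks.Basic.charDegree_of_eq (by simp)⟩
  have hfin : (charDegrees G).Finite := by
    have : Finite (IrrCharacter G) := Characters.Core.finite_irr
    exact Set.finite_range fun χ : IrrCharacter G => charDegree (χ : G → ℂ)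
  have hsubset : (({1, charDegree (α : G → ℂ), charDegree (β : G → ℂ), charDegree (χ₂ : G → ℂ), Q} : Finset ℕ) : Set ℕ) ⊆
      charDegrees G := by
    intro x hx
    simp only [Finset.coe_insert, Finset.coe_singleton, Set.mem_insert_iff, Set.mem_singleton_iff] at hx
    rcases hx with rfl | rfl | rfl | rfl | rfl
    · exact h1mem
    · exact ⟨α, rfl⟩
    · exact ⟨β, rfl⟩
    · exact ⟨χ₂, rfl⟩
    · exact hQ
  have hle := Set.ncard_le_ncard hsubset hfin
  rw [Set.ncard_coe_finset] at hle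
  have h5 : ({1, charDegree (α : G → ℂ), charDegree (β : G → ℂ), charDegree (χ₂ : G → ℂ), Q} : Finset ℕ).card = 5 := by
    rw [Finset.card_insert_of_notMem, Finset.card_insert_of_notMem, Finset.card_insert_of_notMem,
      Finset.card_insert_of_notMem, Finset.card_singleton]
    · simp only [Finset.mem_singleton]; omega
    · simp only [Finset.mem_insert, Finset.mem_singleton]; omega
    · simp only [Finset.mem_insert, Finset.mem_singleton]; omega
    · simp only [Finset.mem_insert, Finset.mem_singleton]; omega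
  omega

end Cfsg.Agent.H69.OctChar
end

-- part: H638/FD/LieGen
section
prune_inst 0x20003005400002000004000200004000000001900040880001000302020c4020890220004880000000008208000500000200003000000000000004000001042180c002003100000404000f800004180c00000000000000000000000000000000200000000
set_option linter.all false
open scoped Cfsg.Agent.FastGrp

-- part: H621/Deg/AutPar
section
/-!
# S4898 (task 2060, helper621): automorphisms and parabolic subgroups of a group with a root group datum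
-/

set_option autoImplicit false
set_option linter.unusedSectionVars false

namespace Cfsg.Agent.H621.Deg

open Cfsg CoxeterSystem Cfsg.Agent.ChevalleyStructure.CoxeterGeom Cfsg.Agent.Tits.Roots Cfsg.Agent.Tits.Core
  Cfsg.Agent.Tits.Exchange Cfsg.Agent.Nodes.Reps Cfsg.Agent.Nodes.BNOf Cfsg.Agent.Nodes.StabComb
  Cfsg.Agent.Nodes.OppDec Cfsg.Agent.Nodes.Bruhat Cfsg.Agent.Nodes.LeviDec
  Cfsg.Agent.KFacts.RgdOpp Cfsg.Agent.KFacts.RgdAut Cfsg.Agent.KFacts.RgdDiag

variable {I W Y : Type*} [Fintype I] [DecidableEq I] [Group W] [Group Y] {M : CoxeterMatrix I}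
  {cs : CoxeterSystem M W} {A : I → I → ℤ} {h : IsCartan M A} {p : ℕ} {T : Subgroup Y} {n : I → Y}
  {X : (I → ℤ) → Subgroup Y}

theorem map_conj_of_mem {P : Subgroup Y} {g : Y} (hg : g ∈ P) : P.map (MulAut.conj g).toMonoidHom = P := by
  apply le_antisymm
  · rintro _ ⟨x, hx, rfl⟩
    exact P.mul_mem (P.mul_mem hg hx) (P.inv_mem hg)
  · intro x hx
    refine ⟨g⁻¹ * x * g, P.mul_mem (P.mul_mem (P.inv_mem hg) hx) hg, ?_⟩
    show g * (g⁻¹ * x * g) * g⁻¹ = x
    group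

theorem aut_par [Finite W] (R : RGD cs h p T n X) (hG : GG cs h T X = ⊤) (α : MulAut Y)
    (hα : ∀ x, α x ∈ RGD.Sup X (RGD.Pos cs h) ↔ x ∈ RGD.Sup X (RGD.Pos cs h)) :
    ∃ σ : Equiv.Perm I, (∀ i j, M (σ i) (σ j) = M i j) ∧
      (∀ J : Set I, (PJ cs h T X J).map α.toMonoidHom = PJ cs h T X (σ '' J)) ∧
      ∀ s, ∃ b ∈ RGD.B cs h T X, ∃ b' ∈ RGD.B cs h T X, α (n s) = b * n (σ s) * b' := by
  obtain ⟨u, hu, h2, h3, h4, -, -⟩ := exists_frame R hG hα
  obtain ⟨σ, hσ⟩ := exists_diag R hG h2 h4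
  have huB : u ∈ RGD.B cs h T X := RGD.U_le_B hu
  have hval : ∀ x, α x = u⁻¹ * (MulAut.conj u * α) x * u := by
    intro x
    show α x = u⁻¹ * (u * α x * u⁻¹) * u
    group
  refine ⟨σ, fun i j => Diag.matrix (R := R) hσ i j, ?_, ?_⟩
  · intro J
    have h5 := Cfsg.Agent.H554.RG.map_PJ R hG ⟨hσ, h2, h3⟩ J
    have huP : u⁻¹ ∈ PJ cs h T X (σ '' J) := (PJ cs h T X (σ '' J)).inv_mem (B_le_PJ huB)
    have h6 : α.toMonoidHom = (MulAut.conj u⁻¹).toMonoidHom.comp (MulAut.conj u * α : MulAut Y).toMonoidHom := by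
      ext x
      show α x = u⁻¹ * (MulAut.conj u * α) x * u⁻¹⁻¹
      rw [inv_inv, ← hval]
    rw [h6, ← Subgroup.map_map, h5, map_conj_of_mem huP]
  · intro s
    have h5 : Rp cs R.nsys (cs.simple (σ s)) ((MulAut.conj u * α) (n s)) := Diag.rp (R := R) hσ s
    have h6 := (rp_simple cs R.nsys (σ s)).unique h5
    refine ⟨u⁻¹, (RGD.B cs h T X).inv_mem huB, (n (σ s))⁻¹ * (MulAut.conj u * α) (n s) * u,
      (RGD.B cs h T X).mul_mem (RGD.T_le_B h6) huB, ?_⟩
    rw [hval]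
    group

end Cfsg.Agent.H621.Deg
end

-- part: H638/FD/Sub
section
/-!
# Subdegrees as indices (helper638)

* `card_orbit` : the subdegree of `x H` in `G / H` is `|H : H ∩ x H x⁻¹|`;
* `relIndex_eq_mul` : `|H : K| = |H : P K| |P : P ∩ K|` for `P` normal in `H`.
-/

set_option autoImplicit false

namespace Cfsg.Agent.H638.FD.Sub

open MulAction

variable {G : Type*} [Group G]

theorem stab_mk (H : Subgroup G) (x : G) :
    stabilizer G (QuotientGroup.mk x : G ⧸ H) = H.map (MulAut.conj x).toMonoidHom := by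
  ext g
  rw [mem_stabilizer_iff]
  constructor
  · intro h
    have h1 : (QuotientGroup.mk (g * x) : G ⧸ H) = QuotientGroup.mk x := h
    rw [eq_comm, QuotientGroup.eq] at h1
    exact ⟨x⁻¹ * (g * x), h1, by simp [mul_assoc]⟩
  · rintro ⟨y, hy, rfl⟩
    change (QuotientGroup.mk (x * y * x⁻¹ * x) : G ⧸ H) = QuotientGroup.mk x
    rw [eq_comm, QuotientGroup.eq]
    have : x⁻¹ * (x * y * x⁻¹ * x) = y := by group
    rw [this]; exact hy

theorem card_orbit (H : Subgroup G) (x : G) :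
    Nat.card (orbit (stabilizer G (QuotientGroup.mk 1 : G ⧸ H)) (QuotientGroup.mk x : G ⧸ H)) =
      (H.map (MulAut.conj x).toMonoidHom).relIndex H := by
  have h1 : stabilizer G (QuotientGroup.mk 1 : G ⧸ H) = H := by
    rw [stab_mk, map_one]
    ext y
    constructor
    · rintro ⟨z, hz, rfl⟩
      exact hz
    · intro hy
      exact ⟨y, hy, rfl⟩
  rw [h1, Subgroup.relIndex, ← stab_mk]
  have h2 := MulAction.index_stabilizer (↥H) (QuotientGroup.mk x : G ⧸ H)
  rw [Nat.card_coe_set_eq, ← h2]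
  rfl

theorem relIndex_eq_mul [Finite G] {P K H : Subgroup G} (hPH : P ≤ H) (hKH : K ≤ H)
    (hn : H ≤ Subgroup.normalizer (P : Set G)) :
    K.relIndex H = (P ⊔ K).relIndex H * K.relIndex P := by
  have h1 := Subgroup.relIndex_mul_relIndex K (P ⊔ K) H le_sup_right (sup_le hPH hKH)
  rw [← h1, mul_comm]
  congr 1
  -- `|P K : K| = |P : P ∩ K|`
  symm
  rw [Subgroup.relIndex, Subgroup.relIndex, Subgroup.index, Subgroup.index]
  refine Nat.card_congr (Equiv.ofBijective (fun q : P ⧸ K.subgroupOf P => Quotient.liftOn' q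
    (fun x : P => (QuotientGroup.mk (⟨x, le_sup_left (a := P) x.2⟩ : ↥(P ⊔ K)) : ↥(P ⊔ K) ⧸ K.subgroupOf (P ⊔ K)))
    (fun x x' hxx => ?_)) ⟨?_, ?_⟩)
  · rw [QuotientGroup.leftRel_apply, Subgroup.mem_subgroupOf] at hxx
    rw [QuotientGroup.eq, Subgroup.mem_subgroupOf]
    exact hxx
  · intro a b hab
    obtain ⟨x, rfl⟩ := QuotientGroup.mk_surjective a
    obtain ⟨x', rfl⟩ := QuotientGroup.mk_surjective b
    have h2 : (QuotientGroup.mk (⟨x, le_sup_left (a := P) x.2⟩ : ↥(P ⊔ K)) : ↥(P ⊔ K) ⧸ K.subgroupOf (P ⊔ K)) =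
      QuotientGroup.mk (⟨x', le_sup_left (a := P) x'.2⟩ : ↥(P ⊔ K)) := hab
    rw [QuotientGroup.eq, Subgroup.mem_subgroupOf] at h2 ⊢
    exact h2
  · intro a
    obtain ⟨⟨g, hg⟩, rfl⟩ := QuotientGroup.mk_surjective a
    have hg' : g ∈ ((P ⊔ K : Subgroup G) : Set G) := hg
    rw [Subgroup.coe_mul_of_right_le_normalizer_left _ _ (hKH.trans hn), Set.mem_mul] at hg'
    obtain ⟨x, hx, k, hk, rfl⟩ := hg'
    refine ⟨QuotientGroup.mk ⟨x, hx⟩, ?_⟩
    change (QuotientGroup.mk (⟨x, _⟩ : ↥(P ⊔ K)) : ↥(P ⊔ K) ⧸ K.subgroupOf (P ⊔ K)) = QuotientGroup.mk _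
    rw [QuotientGroup.eq, Subgroup.mem_subgroupOf]
    change x⁻¹ * (x * k) ∈ K
    rw [inv_mul_cancel_left]; exact hk

/-- The number of cosets of `P K` in `H`, when `H = P S` and the cosets of the elements of `S` are determined by `f`. -/
theorem relIndex_le {P K H : Subgroup G} (hPH : P ≤ H) (hn : H ≤ Subgroup.normalizer (P : Set G)) {α : Type*} (f : G → α) (O : Finset α)
    (S : Set G) (hS : ∀ h ∈ H, ∃ c ∈ P, ∃ g ∈ S, h = c * g) (hSH : S ⊆ H) (hO : ∀ g ∈ S, f g ∈ O)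
    (hf : ∀ g ∈ S, ∀ g' ∈ S, f g = f g' → g⁻¹ * g' ∈ P ⊔ K) : (P ⊔ K).relIndex H ≤ O.card := by
  classical
  rw [Subgroup.relIndex, Subgroup.index]
  have key : ∀ q : H ⧸ (P ⊔ K).subgroupOf H, ∃ g : H, (g : G) ∈ S ∧ QuotientGroup.mk g = q := by
    intro q
    obtain ⟨⟨h, hh⟩, rfl⟩ := QuotientGroup.mk_surjective q
    obtain ⟨c, hc, g, hg, rfl⟩ := hS h hh
    refine ⟨⟨g, hSH hg⟩, hg, ?_⟩
    rw [QuotientGroup.eq, Subgroup.mem_subgroupOf]
    change g⁻¹ * (c * g) ∈ P ⊔ K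
    refine Subgroup.mem_sup_left ?_
    have h1 := (Subgroup.mem_normalizer_iff.1 (inv_mem (hn (hSH hg))) c).1 hc
    rw [inv_inv, mul_assoc] at h1
    exact h1
  choose r hr hr' using key
  have h1 := Nat.card_le_card_of_injective (fun q => (⟨f (r q), hO _ (hr q)⟩ : O)) (by
    intro a b hab
    have h2 := hf _ (hr a) _ (hr b) (congrArg Subtype.val hab)
    rw [← hr' a, ← hr' b, QuotientGroup.eq, Subgroup.mem_subgroupOf]
    exact h2)
  rwa [Nat.card_eq_fintype_card (α := O), Fintype.card_coe] at h1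

end Cfsg.Agent.H638.FD.Sub
end

-- part: H638/FD/Par
section
/-!
# The permutation characters on the parabolic subgroups of an almost simple group (helper638)

`N` normal in the finite group `G`, `R` a root group datum in `N`, `J` a set of nodes invariant under all diagram
automorphisms, `HJ J` the normalizer in `G` of the parabolic subgroup `P_J` of `N`.
* `sup_eq_top`, `subgroupOf_eq`, `index_eq` : `G = N HJ`, `N ∩ HJ = P_J`;
* `dvd_constituent` : the degrees of the nonprincipal constituents of the permutation character on `G / HJ` are divisible by `p`;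
* `false_of_eq` : they are not all equal.
-/

set_option autoImplicit false
set_option linter.unusedSectionVars false

namespace Cfsg.Agent.H638.FD.Par

open Cfsg CoxeterSystem Cfsg.Agent.ChevalleyStructure.CoxeterGeom Cfsg.Agent.Tits.Roots Cfsg.Agent.Tits.Core
  Cfsg.Agent.Tits.Exchange Cfsg.Agent.Nodes.Reps Cfsg.Agent.Nodes.BNOf Cfsg.Agent.Nodes.StabComb
  Cfsg.Agent.Tits.OfBN Cfsg.Agent.Nodes.OppDec
  Cfsg.Agent.Nodes.Bruhat Cfsg.Agent.Nodes.LeviDec Cfsg.Agent.Omega.EH3.Kf.Lev Cfsg.Agent.Lib.MinNormalNonabelian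
  MulAction
  Cfsg.Agent.Characters.Core Cfsg.Agent.H672
open Cfsg.Agent.H117.ParIdx (normalizer_PJ not_dvd_relIndex relIndex_opp relIndex_simple_dvd two_mul_le_card_VJ mul_le_card_VJ)
open Cfsg.Agent.H621.Deg (aut_par)
open Cfsg.Agent.H152.PS (dvd_degree)

universe u

variable {I W : Type*} [Fintype I] [DecidableEq I] [Group W] {M : CoxeterMatrix I}
  {cs : CoxeterSystem M W} {A : I → I → ℤ} {h : IsCartan M A} {p : ℕ} {G : Type u} [Group G] {N : Subgroup G}
  {T : Subgroup N} {n : I → N} {X : (I → ℤ) → Subgroup N}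

/-- invariance under the diagram automorphisms -/
def Stable (M : CoxeterMatrix I) (J : Set I) : Prop :=
  ∀ σ : Equiv.Perm I, (∀ i j, M (σ i) (σ j) = M i j) → σ '' J = J

/-- the normalizer of the parabolic subgroup -/
def HJ (cs : CoxeterSystem M W) (h : IsCartan M A) (T : Subgroup N) (X : (I → ℤ) → Subgroup N) (J : Set I) : Subgroup G :=
  Subgroup.normalizer (((PJ cs h T X J).map N.subtype : Subgroup G) : Set G)

theorem mem_map_iff (K : Subgroup N) (x : N) : (x : G) ∈ K.map N.subtype ↔ x ∈ K := by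
  constructor
  · rintro ⟨z, hz, e⟩
    have : z = x := Subtype.ext e
    rwa [← this]
  · intro hx
    exact ⟨x, hx, rfl⟩

theorem mem_normalizer_map [hN : N.Normal] (K : Subgroup N) {g : G} :
    g ∈ Subgroup.normalizer ((K.map N.subtype : Subgroup G) : Set G) ↔
      ∀ x : N, (MulAut.conjNormal g : MulAut N) x ∈ K ↔ x ∈ K := by
  rw [Subgroup.mem_normalizer_iff]
  constructor
  · intro h1 x
    rw [← mem_map_iff K x, h1, ← mem_map_iff K]
    rfl
  · intro h1 y
    by_cases hy : y ∈ N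
    · have h2 := h1 ⟨y, hy⟩
      rw [← mem_map_iff K ⟨y, hy⟩, ← mem_map_iff K] at h2
      exact h2.symm
    · constructor
      · rintro ⟨z, -, e⟩
        exact absurd (e ▸ z.2) hy
      · rintro ⟨z, -, e⟩
        exfalso
        apply hy
        have h2 : y = g⁻¹ * z * g⁻¹⁻¹ := by
          have : (z : G) = g * y * g⁻¹ := e
          rw [this]; group
        rw [h2]
        exact hN.conj_mem _ z.2 _

theorem exists_sylow [Finite W] [Finite G] [Fact p.Prime] (R : RGD cs h p T n X) (hG : GG cs h T X = ⊤) :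
    ∃ P : Sylow p N, (P : Subgroup N) = RGD.Sup X (RGD.Pos cs h) := by
  obtain ⟨S, hS⟩ := R.isPGroup_Upos.exists_le_sylow
  exact ⟨S, Nodes.NormalForm.eq_U_of_isPGroup R S.isPGroup' hS (by rw [hG]; exact le_top)⟩

/-- elements normalizing `U` -/
theorem of_norm_U [Finite W] [N.Normal] (R : RGD cs h p T n X) (hG : GG cs h T X = ⊤) {J : Set I}
    (hJ : Stable M J) {g : G}
    (hg : g ∈ Subgroup.normalizer (((RGD.Sup X (RGD.Pos cs h)).map N.subtype : Subgroup G) : Set G)) :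
    g ∈ HJ cs h T X J ∧ ∃ σ : Equiv.Perm I, (∀ i j, M (σ i) (σ j) = M i j) ∧
      ∀ s, ∃ b ∈ RGD.B cs h T X, ∃ b' ∈ RGD.B cs h T X, (MulAut.conjNormal g : MulAut N) (n s) = b * n (σ s) * b' := by
  rw [mem_normalizer_map] at hg
  obtain ⟨σ, hσ, hP, hn⟩ := aut_par R hG (MulAut.conjNormal g : MulAut N) hg
  refine ⟨?_, σ, hσ, hn⟩
  rw [HJ, mem_normalizer_map]
  intro x
  have h1 := hP J
  rw [hJ σ hσ] at h1
  constructor
  · intro h2
    rw [← h1] at h2
    obtain ⟨y, hy, e⟩ := h2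
    have : y = x := (MulAut.conjNormal g : MulAut N).injective e
    rwa [← this]
  · intro h2
    rw [← h1]
    exact ⟨x, h2, rfl⟩

theorem sup_eq_top [Finite W] [Finite G] [Fact p.Prime] [N.Normal] (R : RGD cs h p T n X) (hG : GG cs h T X = ⊤)
    {J : Set I} (hJ : Stable M J) : HJ cs h T X J ⊔ N = ⊤ := by
  obtain ⟨P, hP⟩ := exists_sylow R hG
  have h1 := Sylow.normalizer_sup_eq_top P
  rw [eq_top_iff, ← h1]
  refine sup_le_sup_right (fun g hg => (of_norm_U R hG hJ ?_).1) N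
  rw [← hP]
  exact hg

theorem subgroupOf_eq [Finite W] [N.Normal] (R : RGD cs h p T n X) (hG : GG cs h T X = ⊤) (J : Set I) :
    (HJ cs h T X J).subgroupOf N = PJ cs h T X J := by
  rw [← normalizer_PJ R hG J]
  ext x
  rw [Subgroup.mem_subgroupOf, HJ, mem_normalizer_map, Subgroup.mem_normalizer_iff]
  constructor
  · intro h1 y
    exact (h1 y).symm
  · intro h1 y
    exact (h1 y).symm

theorem map_le_HJ [N.Normal] (J : Set I) : (PJ cs h T X J).map N.subtype ≤ HJ cs h T X J := Subgroup.le_normalizer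

theorem inf_eq [Finite W] [N.Normal] (R : RGD cs h p T n X) (hG : GG cs h T X = ⊤) (J : Set I) :
    HJ cs h T X J ⊓ N = (PJ cs h T X J).map N.subtype := by
  rw [← subgroupOf_eq R hG J, Subgroup.subgroupOf_map_subtype]

theorem index_eq [Finite W] [Finite G] [Fact p.Prime] [N.Normal] (R : RGD cs h p T n X) (hG : GG cs h T X = ⊤)
    {J : Set I} (hJ : Stable M J) : (HJ cs h T X J).index = (PJ cs h T X J).index := by
  have hn : (⊤ : Subgroup G) ≤ Subgroup.normalizer (N : Set G) := by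
    rw [Subgroup.normalizer_eq_top]
  have h1 := Sub.relIndex_eq_mul (P := N) (K := HJ cs h T X J) (H := ⊤) le_top le_top hn
  rw [sup_comm, sup_eq_top R hG hJ, Subgroup.relIndex_self, one_mul, Subgroup.relIndex_top_right] at h1
  rw [h1, ← subgroupOf_eq R hG J]
  rfl

/-! ### constituents -/

theorem sum_ne_zero [Finite G] {B P : Subgroup G} [Fintype B] [Fintype P] (hBP : B ≤ P) {χ : G → ℂ} (hχ : IsIrrCharacter G χ)
    (h1 : ∑ b : P, χ b ≠ 0) : ∑ b : B, χ b ≠ 0 := by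
  intro h2
  apply h1
  have h3 : ∀ x : P, ∑ b : B, χ (x * b) = 0 := fun x => H969.TT.TopAbs.sum_mul_eq_zero B hχ h2 x
  have h4 : ∑ b : B, ∑ x : P, χ (x * b) = ∑ b : B, ∑ x : P, χ x := by
    refine Finset.sum_congr rfl fun b _ => ?_
    refine Fintype.sum_equiv (Equiv.mulRight (⟨b, hBP b.2⟩ : P)) _ _ fun x => ?_
    rfl
  rw [Finset.sum_comm, Finset.sum_congr rfl fun x _ => h3 x, Finset.sum_const_zero, Finset.sum_const, Finset.card_univ,
    nsmul_eq_mul] at h4
  have h5 : ((Fintype.card B : ℕ) : ℂ) ≠ 0 := by exact_mod_cast Fintype.card_ne_zero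
  exact (mul_eq_zero.1 h4.symm).resolve_left h5

theorem dvd_constituent [Finite W] [Finite G] [Fintype G] [Fact p.Prime] [N.Normal] (R : RGD cs h p T n X) (hG : GG cs h T X = ⊤)
    (hC : CommGen cs h X) {J : Set I} (hJ : Stable M J) {χ : G → ℂ} (hχ : IsIrrCharacter G χ) (h1 : χ ≠ fun _ => 1)
    (hc : classInner (fun g : G => (Nat.card (fixedBy (G ⧸ HJ cs h T X J) g) : ℂ)) χ ≠ 0) : p ∣ charDegree χ := by
  classical
  let _ : Fintype ((HJ cs h T X J).subgroupOf N) := Fintype.ofFinite _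
  let _ : Fintype (RGD.B cs h T X) := Fintype.ofFinite _
  obtain ⟨θ, hθ, hov, hθ1, hsum⟩ := Ext.exists_under_perm (N := N) (sup_eq_top R hG hJ) hχ h1 hc
  refine dvd_trans ?_ (charDegree_dvd_of_over N hχ hθ hov).1
  refine dvd_degree R hG hC hθ hθ1 (sum_ne_zero (P := (HJ cs h T X J).subgroupOf N) ?_ hθ hsum)
  rw [subgroupOf_eq R hG J]
  exact B_le_PJ

/-! ### subdegrees -/

theorem inf_map [N.Normal] [Finite W] (R : RGD cs h p T n X) (hG : GG cs h T X = ⊤) (J : Set I) (x : N) :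
    (HJ cs h T X J ⊓ (HJ cs h T X J).map (MulAut.conj (x : G)).toMonoidHom) ⊓ (PJ cs h T X J).map N.subtype =
      (PJ cs h T X J ⊓ (PJ cs h T X J).map (MulAut.conj x).toMonoidHom).map N.subtype := by
  ext g
  constructor
  · rintro ⟨⟨-, h2⟩, y, hy, rfl⟩
    refine ⟨y, ⟨hy, ?_⟩, rfl⟩
    obtain ⟨z, hz, e⟩ := h2
    have e' : (x : G) * z * (x : G)⁻¹ = (y : G) := e
    have e1 : z = ((x⁻¹ * y * x : N) : G) := by
      have : (y : G) = (x : G) * z * (x : G)⁻¹ := e'.symm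
      push_cast
      rw [this]; group
    refine ⟨x⁻¹ * y * x, ?_, ?_⟩
    · rw [SetLike.mem_coe, ← subgroupOf_eq R hG J, Subgroup.mem_subgroupOf, ← e1]
      exact hz
    · change x * (x⁻¹ * y * x) * x⁻¹ = y
      group
  · rintro ⟨y, ⟨hy, z, hz, e⟩, rfl⟩
    have hle : ∀ w : N, w ∈ PJ cs h T X J → (w : G) ∈ HJ cs h T X J := by
      intro w hw
      rw [← subgroupOf_eq R hG J, Subgroup.mem_subgroupOf] at hw
      exact hw
    refine ⟨⟨hle y hy, (z : G), hle z hz, ?_⟩, y, hy, rfl⟩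
    have e' : x * z * x⁻¹ = y := e
    change (x : G) * z * (x : G)⁻¹ = (y : G)
    rw [← e']
    push_cast
    rfl

/-- the number of the `P_J`-suborbits in a suborbit -/
noncomputable def tt (cs : CoxeterSystem M W) (h : IsCartan M A) (T : Subgroup N) (X : (I → ℤ) → Subgroup N) (J : Set I) (x : N) : ℕ :=
  ((PJ cs h T X J).map N.subtype ⊔ (HJ cs h T X J ⊓ (HJ cs h T X J).map (MulAut.conj (x : G)).toMonoidHom)).relIndex
    (HJ cs h T X J)

theorem subdegree_eq [N.Normal] [Finite W] [Finite G] (R : RGD cs h p T n X) (hG : GG cs h T X = ⊤) (J : Set I) (x : N) :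
    Nat.card (orbit (stabilizer G (QuotientGroup.mk 1 : G ⧸ HJ cs h T X J)) (QuotientGroup.mk (x : G) : G ⧸ HJ cs h T X J)) =
      tt cs h T X J x * (PJ cs h T X J ⊓ (PJ cs h T X J).map (MulAut.conj x).toMonoidHom).relIndex (PJ cs h T X J) := by
  rw [Sub.card_orbit]
  set H := HJ cs h T X J with hH
  set! K := H ⊓ H.map (MulAut.conj (x : G)).toMonoidHom with hK
  have h1 : (H.map (MulAut.conj (x : G)).toMonoidHom).relIndex H = K.relIndex H := by
    rw [hK, Subgroup.inf_relIndex_left]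
  rw [h1, Sub.relIndex_eq_mul (P := (PJ cs h T X J).map N.subtype) (map_le_HJ J) inf_le_left (le_refl _), tt]
  congr 1
  rw [← Subgroup.inf_relIndex_right, inf_map R hG J x, Subgroup.relIndex_map_map_of_injective _ _ N.subtype_injective]

theorem tt_le [N.Normal] [Finite W] [Finite G] [Fact p.Prime] (R : RGD cs h p T n X) (hG : GG cs h T X = ⊤) {J : Set I}
    (hJ : Stable M J) (O : Finset I) (hO : ∀ i, i ∈ O ↔ i ∉ J) {s : I} (hs : s ∉ J) :
    tt cs h T X J (n s) ≤ O.card := by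
  classical
  set! H := HJ cs h T X J with hH
  set! P := (PJ cs h T X J).map N.subtype with hP
  set! S : Set G := {g | g ∈ Subgroup.normalizer (((RGD.Sup X (RGD.Pos cs h)).map N.subtype : Subgroup G) : Set G)} with hS
  have hHP : H ≤ Subgroup.normalizer (P : Set G) := le_refl _
  have hPN : P = H ⊓ N := (inf_eq R hG J).symm
  have hle : ∀ w : N, w ∈ PJ cs h T X J → (w : G) ∈ P := fun w hw => ⟨w, hw, rfl⟩
  -- the type
  have key : ∀ g ∈ S, ∃ s' ∈ O, ∃ b ∈ RGD.B cs h T X, ∃ b' ∈ RGD.B cs h T X,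
      (MulAut.conjNormal g : MulAut N) (n s) = b * n s' * b' := by
    intro g hg
    obtain ⟨-, σ, hσ, hn⟩ := of_norm_U R hG hJ hg
    refine ⟨σ s, ?_, hn s⟩
    rw [hO]
    intro h1
    apply hs
    have h2 := hJ σ hσ
    rw [← h2] at h1
    obtain ⟨j, hj, e⟩ := h1
    rwa [← σ.injective e]
  let f : G → I := fun g => if hg : g ∈ S then (key g hg).choose else s
  have hf : ∀ g, ∀ hg : g ∈ S, f g = (key g hg).choose := fun g hg => dif_pos hg
  refine Sub.relIndex_le (map_le_HJ J) hHP f O S ?_ ?_ ?_ ?_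
  · intro x hx
    obtain ⟨Q, hQ⟩ := exists_sylow R hG
    have h1 := Sylow.normalizer_sup_eq_top Q
    have h2 : x ∈ ((N ⊔ Subgroup.normalizer (((Q : Subgroup N).map N.subtype : Subgroup G) : Set G) : Subgroup G) : Set G) := by
      rw [sup_comm, h1]; exact Subgroup.mem_top x
    rw [Subgroup.normal_mul, Set.mem_mul] at h2
    obtain ⟨c, hc, g, hg, rfl⟩ := h2
    have hgS : g ∈ S := by
      change g ∈ Subgroup.normalizer _
      rw [← hQ]; exact hg
    refine ⟨c, ?_, g, hgS, rfl⟩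
    change c ∈ P
    rw [hPN]
    refine ⟨?_, hc⟩
    have h3 := mul_mem hx (inv_mem (of_norm_U R hG hJ hgS).1)
    rwa [mul_inv_cancel_right] at h3
  · intro g hg
    exact (of_norm_U R hG hJ hg).1
  · intro g hg
    rw [hf g hg]
    exact (key g hg).choose_spec.1
  · intro g hg g' hg' he
    rw [hf g hg, hf g' hg'] at he
    obtain ⟨-, b₁, hb₁, b₂, hb₂, e⟩ := (key g hg).choose_spec
    obtain ⟨-, c₁, hc₁, c₂, hc₂, e'⟩ := (key g' hg').choose_spec
    rw [he] at e
    set! s' := (key g' hg').choose with hset8; rewrite [← hset8] at e' e he; clear hset8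
    have hgH := (of_norm_U R hG hJ hg).1
    have hgH' := (of_norm_U R hG hJ hg').1
    -- in `G`
    have e1 : g * (n s : G) * g⁻¹ = b₁ * n s' * b₂ := congrArg Subtype.val e
    have e2 : g' * (n s : G) * g'⁻¹ = c₁ * n s' * c₂ := congrArg Subtype.val e'
    have hPm : ∀ b ∈ RGD.B cs h T X, (b : G) ∈ P := fun b hb => hle b (B_le_PJ hb)
    have hPH : P ≤ H := map_le_HJ J
    set! y : G := g⁻¹ * (b₁ * (c₁ : G)⁻¹) * g' with hy
    set! z : G := g'⁻¹ * ((c₂ : G)⁻¹ * b₂) * g with hz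
    have hyH : y ∈ H := mul_mem (mul_mem (inv_mem hgH) (hPH (mul_mem (hPm _ hb₁) (inv_mem (hPm _ hc₁))))) hgH'
    have hzH : z ∈ H := mul_mem (mul_mem (inv_mem hgH') (hPH (mul_mem (inv_mem (hPm _ hc₂)) (hPm _ hb₂)))) hgH
    have e3 : (n s : G) = y * n s * z := by
      have h1 : (n s' : G) = (c₁ : G)⁻¹ * (g' * (n s : G) * g'⁻¹) * (c₂ : G)⁻¹ := by rw [e2]; group
      have h2 : (n s : G) = g⁻¹ * (b₁ * n s' * b₂) * g := by rw [← e1]; group
      rw [h1] at h2
      conv_lhs => rw [h2]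
      rw [hy, hz]; group
    have hyK : y ∈ H ⊓ H.map (MulAut.conj (n s : G)).toMonoidHom := by
      refine ⟨hyH, z⁻¹, inv_mem hzH, ?_⟩
      change (n s : G) * z⁻¹ * (n s : G)⁻¹ = y
      have h1 : y = (n s : G) * z⁻¹ * (n s : G)⁻¹ := by
        have h2 : y * n s * z * z⁻¹ * (n s : G)⁻¹ = y := by group
        rw [← h2, ← e3]
      exact h1.symm
    have e4 : g⁻¹ * g' = y * (g'⁻¹ * ((c₁ : G) * (b₁ : G)⁻¹) * g'⁻¹⁻¹) := by
      rw [hy]; group
    rw [e4]
    refine mul_mem (Subgroup.mem_sup_right hyK) (Subgroup.mem_sup_left ?_)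
    exact (Subgroup.mem_normalizer_iff.1 (hHP (inv_mem hgH')) _).1 (mul_mem (hPm _ hc₁) (inv_mem (hPm _ hb₁)))

/-- stability under the opposition -/
theorem op_mem_iff [Finite W] (h : IsCartan M A) {J : Set I} (hJ : Stable M J) (i : I) : op cs i ∈ J ↔ i ∈ J := by
  have hinj : Function.Injective cs.simple := fun i j hij => by
    by_contra hne
    exact RGD.simple_ne (cs := cs) (h := h) hne hij
  let σ : Equiv.Perm I := ⟨op cs, op cs, fun i => op_op cs hinj i, fun i => op_op cs hinj i⟩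
  have hσ : ∀ i, σ i = op cs i := fun _ => rfl
  have h1 : ∀ i j, M (σ i) (σ j) = M i j := by
    intro i j
    rw [← LieRecognition.CoxForm.orderOf_eq cs (σ i) (σ j), ← LieRecognition.CoxForm.orderOf_eq cs i j, hσ, hσ, simple_op, simple_op]
    have e : w0 cs * cs.simple i * w0 cs * (w0 cs * cs.simple j * w0 cs) =
        w0 cs * (cs.simple i * cs.simple j) * (w0 cs)⁻¹ := by
      rw [w0_inv]
      have : w0 cs * cs.simple i * w0 cs * (w0 cs * cs.simple j * w0 cs) =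
        w0 cs * cs.simple i * (w0 cs * w0 cs) * cs.simple j * w0 cs := by group
      rw [this, w0_mul_self]; group
    rw [e]
    exact orderOf_injective (MulAut.conj (w0 cs)).toMonoidHom (MulAut.conj (w0 cs)).injective _
  have h2 := hJ σ h1
  constructor
  · intro h3
    rw [← h2] at h3
    obtain ⟨j, hj, e⟩ := h3
    rwa [← σ.injective e]
  · intro h3
    rw [← h2]
    exact ⟨i, h3, rfl⟩

/-- **The nonprincipal constituents do not all have the same degree.** -/
theorem false_of_eq [N.Normal] [Finite W] [Fintype G] [Fact p.Prime] (R : RGD cs h p T n X) (hG : GG cs h T X = ⊤)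
    (hconn : ∀ J : Set I, J.Nonempty → J ≠ Set.univ → ∃ a ∈ J, ∃ b, b ∉ J ∧ M a b ≠ 2) {J : Set I}
    (hJ : Stable M J) (hne : J.Nonempty) (O : Finset I) (hO : ∀ i, i ∈ O ↔ i ∉ J) (hO1 : O.card = 1 ∨ O.card = 2) (f : ℕ)
    (hf : ∀ χ : G → ℂ, IsIrrCharacter G χ → (χ ≠ fun _ => 1) →
      classInner (fun g : G => (Nat.card (fixedBy (G ⧸ HJ cs h T X J) g) : ℂ)) χ ≠ 0 → charDegree χ = f) : False := by
  classical
  have hp : p.Prime := Fact.out
  have hJu : J ≠ Set.univ := by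
    intro h1
    have h2 : O = ∅ := by
      rw [Finset.eq_empty_iff_forall_notMem]
      intro i hi
      exact (hO i).1 hi (by rw [h1]; trivial)
    rw [h2, Finset.card_empty] at hO1
    omega
  obtain ⟨j, hj, s, hs, hM⟩ := hconn J hne hJu
  have hM' : M s j ≠ 2 := by rw [M.symmetric]; exact hM
  obtain ⟨k, hk⟩ := exists_rp cs R.nsys (w0 cs)
  let _ : Fintype (G ⧸ HJ cs h T X J) := Fintype.ofFinite _
  set! a : G ⧸ HJ cs h T X J := QuotientGroup.mk 1 with ha
  have hsub := ((S0716.result (G := G) (Ω := G ⧸ HJ cs h T X J) a).1 f (fun χ h1 h2 h3 => by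
    rw [← coe_charDegree h1, hf χ h1 h2 h3])).2
  have hV2 : 2 * Nat.card (X (sr s)) ≤ Nat.card (VJ cs h X J) := two_mul_le_card_VJ R J hs hj hM'
  have hXpos : 0 < Nat.card (X (sr s)) := Nat.card_pos
  have hopp := relIndex_opp R hG J (op_mem_iff h hJ) hk
  -- the two points
  have hka : (QuotientGroup.mk (k : G) : G ⧸ HJ cs h T X J) ≠ a := by
    intro h1
    rw [ha, eq_comm, QuotientGroup.eq, inv_one, one_mul] at h1
    have h2 : k ∈ PJ cs h T X J := by
      rw [← subgroupOf_eq R hG J, Subgroup.mem_subgroupOf]; exact h1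
    rw [H554.RG.map_conj_of_mem R h2, inf_idem, Subgroup.relIndex_self] at hopp
    omega
  have hsa : (QuotientGroup.mk (n s : G) : G ⧸ HJ cs h T X J) ≠ a := by
    intro h1
    rw [ha, eq_comm, QuotientGroup.eq, inv_one, one_mul] at h1
    have h2 : n s ∈ PJ cs h T X J := by
      rw [← subgroupOf_eq R hG J, Subgroup.mem_subgroupOf]; exact h1
    exact hs ((H554.RG.n_mem_PJ_iff R).1 h2)
  have e1 := (subdegree_eq R hG J k).symm.trans (hsub _ hka)
  have e2 := (subdegree_eq R hG J (n s)).symm.trans (hsub _ hsa)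
  rw [hopp] at e1
  have htt := tt_le R hG hJ O hO hs
  obtain ⟨c, hc⟩ := relIndex_simple_dvd R hG J s
  -- `|V_J|` divides `t q_s`
  have hVp : ∃ m, Nat.card (VJ cs h X J) = p ^ m := by
    have h1 : IsPGroup p (VJ cs h X J) := R.isPGroup_Upos.to_le (VJ_le_U J)
    exact IsPGroup.iff_card.1 h1
  obtain ⟨m, hm⟩ := hVp
  have hcop : Nat.Coprime (Nat.card (VJ cs h X J)) ((RGD.Sup X (RGD.Pos cs h)).relIndex (PJ cs h T X J)) := by
    rw [hm]
    exact Nat.Coprime.pow_left _ ((Nat.Prime.coprime_iff_not_dvd hp).2 (not_dvd_relIndex R hG J))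
  have hdvd : Nat.card (VJ cs h X J) ∣ tt cs h T X J (n s) * Nat.card (X (sr s)) := by
    refine hcop.dvd_of_dvd_mul_left (n := tt cs h T X J (n s) * Nat.card (X (sr s))) ?_
    have h1 : Nat.card (VJ cs h X J) ∣ f := ⟨_, by rw [← e1]; ring⟩
    refine h1.trans ⟨c, ?_⟩
    rw [← e2, mul_assoc, ← hc]
    ring
  have hOne : O.Nonempty := ⟨s, (hO s).2 hs⟩
  have htpos : 0 < tt cs h T X J (n s) := Nat.pos_of_ne_zero (by
    unfold tt Subgroup.relIndex; exact Subgroup.index_ne_zero_of_finite)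
  have hle := Nat.le_of_dvd (Nat.mul_pos htpos hXpos) hdvd
  rcases hO1 with h1 | h2
  · rw [h1] at htt
    have h3 : tt cs h T X J (n s) * Nat.card (X (sr s)) ≤ 1 * Nat.card (X (sr s)) := Nat.mul_le_mul_right _ htt
    omega
  · obtain ⟨s', hs', hss⟩ := Finset.exists_mem_ne (by rw [h2]; norm_num : 1 < O.card) s
    have hs'J := (hO s').1 hs'
    have hV := mul_le_card_VJ R J hs hs'J (Ne.symm hss) hj hM'
    have hq' : 2 ≤ Nat.card (X (sr s')) := by
      obtain ⟨u, hu, hu1⟩ := exists_ne_one R s'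
      have : Nontrivial (X (sr s')) := ⟨⟨⟨u, hu⟩, 1, fun h1 => hu1 (congrArg Subtype.val h1)⟩⟩
      exact Finite.one_lt_card
    rw [h2] at htt
    have h3 : tt cs h T X J (n s) * Nat.card (X (sr s)) ≤ 2 * Nat.card (X (sr s)) := Nat.mul_le_mul_right _ htt
    have h4 : Nat.card (X (sr s)) * 2 ≤ Nat.card (X (sr s)) * Nat.card (X (sr s')) := Nat.mul_le_mul_left _ hq'
    omega

end Cfsg.Agent.H638.FD.Par
end

-- part: H783/CoxNodes
section
/-!
# Stable sets of nodes of connected Coxeter diagrams (task 1839, S4898)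
-/

set_option autoImplicit false

namespace Cfsg.Agent.H783.CoxNodes

open Cfsg.Agent.LieRecognition.CoxClass

/-- a stable set of one node, or of two nodes with a bond outside -/
def Good {n : ℕ} (m : Fin n → Fin n → ℕ) : Prop :=
  ∃ O : Finset (Fin n), (∀ σ : Equiv.Perm (Fin n), (∀ i j, m (σ i) (σ j) = m i j) → ∀ i ∈ O, σ i ∈ O) ∧
    (O.card = 1 ∨ (O.card = 2 ∧ 4 ≤ n ∧ ∃ i j : Fin n, i ≠ j ∧ i ∉ O ∧ j ∉ O ∧ m i j ≠ 2))

theorem Good.transport {n l : ℕ} {m : Fin l → Fin l → ℕ} (v : Fin n ≃ Fin l) (h : Good fun i j => m (v i) (v j)) :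
    Good m := by
  obtain ⟨O, h1, h2⟩ := h
  have hnl : n = l := by simpa only [_root_.Fintype.card_fin] using Fintype.card_congr v
  refine ⟨O.map v.toEmbedding, ?_, ?_⟩
  · intro σ hσ i hi
    rw [Finset.mem_map_equiv] at hi ⊢
    have h3 := h1 ((v.trans σ).trans v.symm) (fun i j => by simp [hσ]) _ hi
    simpa using h3
  · rw [Finset.card_map]
    rcases h2 with h2 | ⟨h2, h3, i, j, h4, h5, h6, h7⟩
    · exact Or.inl h2
    · refine Or.inr ⟨h2, by omega, v i, v j, fun e => h4 (v.injective e), ?_, ?_, h7⟩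
      · rw [Finset.mem_map_equiv]; simpa using h5
      · rw [Finset.mem_map_equiv]; simpa using h6

/-- two different neighbours -/
def Nb2 {n : ℕ} (m : Fin n → Fin n → ℕ) (i : Fin n) : Prop :=
  ∃ c d, c ≠ i ∧ d ≠ i ∧ c ≠ d ∧ m i c ≠ 2 ∧ m i d ≠ 2

/-- three different neighbours -/
def Nb3 {n : ℕ} (m : Fin n → Fin n → ℕ) (i : Fin n) : Prop :=
  ∃ c d e, c ≠ i ∧ d ≠ i ∧ e ≠ i ∧ c ≠ d ∧ c ≠ e ∧ d ≠ e ∧ m i c ≠ 2 ∧ m i d ≠ 2 ∧ m i e ≠ 2

theorem Nb2.map {n : ℕ} {m : Fin n → Fin n → ℕ} {σ : Equiv.Perm (Fin n)} (hσ : ∀ i j, m (σ i) (σ j) = m i j) {i : Fin n}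
    (h : Nb2 m i) : Nb2 m (σ i) := by
  obtain ⟨c, d, h1, h2, h3, h4, h5⟩ := h
  exact ⟨σ c, σ d, fun e => h1 (σ.injective e), fun e => h2 (σ.injective e), fun e => h3 (σ.injective e),
    by rwa [hσ], by rwa [hσ]⟩

theorem Nb3.map {n : ℕ} {m : Fin n → Fin n → ℕ} {σ : Equiv.Perm (Fin n)} (hσ : ∀ i j, m (σ i) (σ j) = m i j) {i : Fin n}
    (h : Nb3 m i) : Nb3 m (σ i) := by
  obtain ⟨c, d, e, h1, h2, h3, h4, h5, h6, h7, h8, h9⟩ := h
  exact ⟨σ c, σ d, σ e, fun e => h1 (σ.injective e), fun e => h2 (σ.injective e), fun e => h3 (σ.injective e),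
    fun e => h4 (σ.injective e), fun e => h5 (σ.injective e), fun e => h6 (σ.injective e),
    by rwa [hσ], by rwa [hσ], by rwa [hσ]⟩

theorem inv {n : ℕ} {m : Fin n → Fin n → ℕ} {σ : Equiv.Perm (Fin n)} (hσ : ∀ i j, m (σ i) (σ j) = m i j) (i j : Fin n) :
    m (σ.symm i) (σ.symm j) = m i j := by
  rw [← hσ, Equiv.apply_symm_apply, Equiv.apply_symm_apply]

/-- one node with `Nb2` or one node with `Nb3` -/
theorem good_two {n : ℕ} {m : Fin n → Fin n → ℕ} (a : Fin n) (h : ∀ i, Nb2 m i ↔ i = a) : Good m := by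
  refine ⟨{a}, ?_, Or.inl (Finset.card_singleton a)⟩
  intro σ hσ i hi
  rw [Finset.mem_singleton] at hi ⊢
  exact (h _).1 (Nb2.map hσ ((h i).2 hi))

theorem good_three {n : ℕ} {m : Fin n → Fin n → ℕ} (a : Fin n) (h : ∀ i, Nb3 m i ↔ i = a) : Good m := by
  refine ⟨{a}, ?_, Or.inl (Finset.card_singleton a)⟩
  intro σ hσ i hi
  rw [Finset.mem_singleton] at hi ⊢
  exact (h _).1 (Nb3.map hσ ((h i).2 hi))

/-- two nodes without `Nb2` -/
theorem good_ends {n : ℕ} {m : Fin n → Fin n → ℕ} {a b i j : Fin n} (hab : a ≠ b) (hn : 4 ≤ n)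
    (h : ∀ i, ¬ Nb2 m i ↔ i = a ∨ i = b) (hij : i ≠ j) (hia : i ≠ a) (hib : i ≠ b) (hja : j ≠ a) (hjb : j ≠ b)
    (hm : m i j ≠ 2) : Good m := by
  refine ⟨{a, b}, ?_, Or.inr ⟨Finset.card_pair hab, hn, i, j, hij, by simp [hia, hib], by simp [hja, hjb], hm⟩⟩
  intro σ hσ i hi
  rw [Finset.mem_insert, Finset.mem_singleton] at hi ⊢
  rw [← h] at hi ⊢
  intro h1
  apply hi
  have h2 := Nb2.map (σ := σ.symm) (inv hσ) h1
  rwa [Equiv.symm_apply_apply] at h2

/-- a path -/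
theorem good_path {n : ℕ} {m : Fin n → Fin n → ℕ} (hn : 3 ≤ n)
    (h : ∀ i j : Fin n, i ≠ j → (m i j ≠ 2 ↔ ((i : ℕ) + 1 = j ∨ (j : ℕ) + 1 = i))) : Good m := by
  have key : ∀ i : Fin n, Nb2 m i ↔ (0 < (i : ℕ) ∧ (i : ℕ) + 1 < n) := by
    intro i
    constructor
    · rintro ⟨c, d, h1, h2, h3, h4, h5⟩
      rw [h _ _ h1.symm] at h4
      rw [h _ _ h2.symm] at h5
      have h6 : (c : ℕ) ≠ d := fun e => h3 (Fin.ext e)
      have := c.2
      have := d.2
      omega
    · rintro ⟨h1, h2⟩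
      have hc : (⟨i - 1, by omega⟩ : Fin n) ≠ i := fun e => by
        have := congrArg Fin.val e
        simp only at this
        omega
      have hd : (⟨i + 1, h2⟩ : Fin n) ≠ i := fun e => by
        have := congrArg Fin.val e
        simp only at this
        omega
      refine ⟨⟨i - 1, by omega⟩, ⟨i + 1, h2⟩, hc, hd, fun e => ?_, ?_, ?_⟩
      · have := congrArg Fin.val e
        simp only at this
        omega
      · rw [h _ _ hc.symm]
        right
        simp only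
        omega
      · rw [h _ _ hd.symm]
        left
        rfl
  rcases Nat.lt_or_ge n 4 with h4 | h4
  · obtain rfl : n = 3 := by omega
    refine good_two 1 fun i => ?_
    rw [key]
    constructor
    · intro h1
      exact Fin.ext (by
        show (i : ℕ) = 1
        omega)
    · rintro rfl
      decide
  · refine good_ends (a := ⟨0, by omega⟩) (b := ⟨n - 1, by omega⟩) (i := ⟨1, by omega⟩) (j := ⟨2, by omega⟩) ?_ h4 ?_
      ?_ ?_ ?_ ?_ ?_ ?_
    · intro e
      have := congrArg Fin.val e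
      simp only at this
      omega
    · intro i
      rw [key, Fin.ext_iff, Fin.ext_iff]
      have := i.2
      simp only
      omega
    · simp [Fin.ext_iff]
    · simp [Fin.ext_iff]
    · simp [Fin.ext_iff]; omega
    · simp [Fin.ext_iff]
    · simp [Fin.ext_iff]; omega
    · rw [h _ _ (by simp [Fin.ext_iff])]
      left
      rfl

/-- type `D_n` -/
theorem good_D {n : ℕ} (hn : 4 ≤ n) : Good (n := n) fun i j => mD n i j := by
  have key : ∀ i j : Fin n, i ≠ j → (mD n i j ≠ 2 ↔ ((i : ℕ) + 1 = j ∧ (j : ℕ) + 1 < n) ∨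
      ((j : ℕ) + 1 = i ∧ (i : ℕ) + 1 < n) ∨ ((i : ℕ) + 3 = n ∧ (j : ℕ) + 1 = n) ∨
      ((j : ℕ) + 3 = n ∧ (i : ℕ) + 1 = n)) := by
    intro i j hij
    have h1 : (i : ℕ) ≠ j := fun e => hij (Fin.ext e)
    unfold mD
    rw [if_neg h1]
    split_ifs with h2
    · simp [h2]
    · simp [h2]
  refine good_three ⟨n - 3, by omega⟩ fun i => ?_
  constructor
  · rintro ⟨c, d, e, h1, h2, h3, h4, h5, h6, h7, h8, h9⟩
    rw [key _ _ h1.symm] at h7
    rw [key _ _ h2.symm] at h8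
    rw [key _ _ h3.symm] at h9
    have h4' : (c : ℕ) ≠ d := fun e => h4 (Fin.ext e)
    have h5' : (c : ℕ) ≠ e := fun e => h5 (Fin.ext e)
    have h6' : (d : ℕ) ≠ e := fun e => h6 (Fin.ext e)
    apply Fin.ext
    simp only
    (clear * - h7 h8 h9 h4' h5' h6'; solve | lia | omega)
  · rintro rfl
    have e : ∀ k : ℕ, ∀ hk : k < n, k ≠ n - 3 → (⟨k, hk⟩ : Fin n) ≠ ⟨n - 3, by omega⟩ := fun k hk h h' =>
      h (congrArg Fin.val h')
    have e' : ∀ k j : ℕ, ∀ (hk : k < n) (hj : j < n), k ≠ j → (⟨k, hk⟩ : Fin n) ≠ ⟨j, hj⟩ := fun k j hk hj h h' =>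
      h (congrArg Fin.val h')
    refine ⟨⟨n - 4, by omega⟩, ⟨n - 2, by omega⟩, ⟨n - 1, by omega⟩, e _ _ (by omega), e _ _ (by omega),
      e _ _ (by omega), e' _ _ _ _ (by omega), e' _ _ _ _ (by omega), e' _ _ _ _ (by omega), ?_, ?_, ?_⟩
    · rw [key _ _ (e _ _ (by omega)).symm]
      simp only
      omega
    · rw [key _ _ (e _ _ (by omega)).symm]
      simp only
      omega
    · rw [key _ _ (e _ _ (by omega)).symm]
      simp only
      omega

instance decNb3 {n : ℕ} (m : Fin n → Fin n → ℕ) (i : Fin n) : Decidable (Nb3 m i) := by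
  unfold Nb3
  infer_instance

theorem good_E6 : Good (n := 6) fun i j => mE 6 i j := good_three 2 (by decide +kernel)
theorem good_E7 : Good (n := 7) fun i j => mE 7 i j := good_three 2 (by decide +kernel)
theorem good_E8 : Good (n := 8) fun i j => mE 8 i j := good_three 2 (by decide +kernel)

theorem good_A {n : ℕ} (hn : 3 ≤ n) : Good (n := n) fun i j => mA i j := by
  refine good_path hn fun i j hij => ?_
  have h1 : (i : ℕ) ≠ j := fun e => hij (Fin.ext e)
  unfold mA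
  rw [if_neg h1]
  split_ifs with h2
  · simp [h2]
  · simp [h2]

theorem good_C {n : ℕ} (hn : 3 ≤ n) : Good (n := n) fun i j => mC n i j := by
  refine good_path hn fun i j hij => ?_
  have h1 : (i : ℕ) ≠ j := fun e => hij (Fin.ext e)
  unfold mC
  rw [if_neg h1]
  split_ifs with h2 h3 h3 h4 <;> simp [*]

theorem good_F : Good (n := 4) fun i j => mF i j := by
  refine good_path (by norm_num) fun i j hij => ?_
  have h1 : (i : ℕ) ≠ j := fun e => hij (Fin.ext e)
  unfold mF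
  rw [if_neg h1]
  split_ifs with h2 h3
  · rcases h2 with ⟨h2, h3⟩ | ⟨h2, h3⟩ <;> simp [h2, h3]
  · simp [h3]
  · simp [h3]

theorem exists_nodes {l : ℕ} (hl : 3 ≤ l) (M : CoxeterMatrix (Fin l)) {W : Type*} [Group W] [Finite W] (cs : CoxeterSystem M W)
    (h5 : ∀ a b, M a b ≠ 5) (hc : Cfsg.Agent.H396.Conn M) :
    ∃ O : Finset (Fin l), (∀ σ : Equiv.Perm (Fin l), (∀ i j, M (σ i) (σ j) = M i j) → ∀ i ∈ O, σ i ∈ O) ∧
      (O.card = 1 ∨ (O.card = 2 ∧ 4 ≤ l ∧ ∃ i j : Fin l, i ≠ j ∧ i ∉ O ∧ j ∉ O ∧ M i j ≠ 2)) := by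
  have h := classify_coxeter cs h5 (fun J hJ hJc => by
    obtain ⟨a, ha, b, hb, hab⟩ := hc J hJ (fun e => by
      obtain ⟨x, hx⟩ := hJc
      rw [e] at hx
      exact hx trivial)
    exact ⟨a, ha, b, hb, hab⟩) (by rwa [Fintype.card_fin])
  have key : ∀ {n : ℕ} (v : Fin n ≃ Fin l) (m : ℕ → ℕ → ℕ), Lab M v m → (Good (n := n) fun i j => m i j) →
      Good (n := l) fun i j => M i j := by
    intro n v m hv hg
    refine Good.transport v ?_
    have e : (fun i j : Fin n => M (v i) (v j)) = fun i j : Fin n => m i j := by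
      funext i j
      exact hv i j
    rw [e]
    exact hg
  rcases h with ⟨n, v, hn, h⟩ | ⟨n, v, hn, h⟩ | ⟨n, v, hn, h⟩ | ⟨v, h⟩ | ⟨v, h⟩ | ⟨v, h⟩ | ⟨v, h⟩
  · exact key v _ h (good_A hn)
  · exact key v _ h (good_C hn)
  · exact key v _ h (good_D hn)
  · exact key v _ h good_E6
  · exact key v _ h good_E7
  · exact key v _ h good_E8
  · exact key v _ h good_F

end Cfsg.Agent.H783.CoxNodes
end

-- part: H638/FD/RankThree
section
/-!
# Almost simple groups with a socle of Lie rank at least three have at least five character degrees (helper638)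
-/

set_option autoImplicit false
set_option linter.unusedSectionVars false

namespace Cfsg.Agent.H638.FD.RankThree

open Cfsg CoxeterSystem Cfsg.Agent.ChevalleyStructure.CoxeterGeom Cfsg.Agent.Tits.Roots Cfsg.Agent.Tits.Core
  Cfsg.Agent.Tits.Exchange Cfsg.Agent.Nodes.Reps Cfsg.Agent.Nodes.BNOf Cfsg.Agent.Nodes.StabComb
  Cfsg.Agent.Nodes.Bruhat Cfsg.Agent.Nodes.LeviDec Cfsg.Agent.Omega.EH3.Kf.Lev
  Cfsg.Agent.H638.FD.Par MulAction
  Cfsg.Agent.Characters.Core Cfsg.Agent.H672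
open Cfsg.Agent.H783.CoxNodes (exists_nodes)

universe u

/-! ### numbers -/

section num

variable {ι : Type*} [Fintype ι] [DecidableEq ι]

theorem pair_le (a b : ℕ) : 2 * ((a + 2) * (b + 2)) ≤ ((a + 3) * (a + 1)) * ((b + 3) * (b + 1)) := by
  have h1 : 3 * (a + 2) ≤ 2 * ((a + 3) * (a + 1)) := by nlinarith
  have h2 : 3 * (b + 2) ≤ 2 * ((b + 3) * (b + 1)) := by nlinarith only []
  have h3 := Nat.mul_le_mul h1 h2
  nlinarith only [h3]

theorem edge_le (a b : ℕ) : 4 * ((a + 2) * (b + 2)) ≤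
    ((a + 3) * (a + 1)) * ((b + 1) * (1 + (b + 2) + (a + 2) * (b + 2))) := by
  have h1 : 3 * (a + 2) ≤ 2 * ((a + 3) * (a + 1)) := by nlinarith
  have h2 : 3 * (b + 2) ≤ (b + 1) * (1 + (b + 2) + (a + 2) * (b + 2)) := by nlinarith [Nat.zero_le (a * b)]
  have h3 := Nat.mul_le_mul h1 h2
  nlinarith only [h3]

theorem num_one (q : ι → ℕ) (hq : ∀ i, 2 ≤ q i) (O : Finset ι) (hO : O.card = 1) (hc : 2 ≤ Oᶜ.card) :
    ∏ i, q i ≤ (∏ i ∈ Oᶜ, (1 + q i)) * ∏ i, (q i - 1) := by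
  obtain ⟨o, rfl⟩ := Finset.card_eq_one.1 hO
  obtain ⟨a, ha, b, hb, hab⟩ := Finset.one_lt_card.1 hc
  set J := ({o} : Finset ι)ᶜ with hJ
  rw [← Finset.prod_mul_prod_compl {o} q, ← Finset.prod_mul_prod_compl {o} (fun i => q i - 1), Finset.prod_singleton,
    Finset.prod_singleton, ← hJ]
  have h1 : ∀ f : ι → ℕ, ∏ i ∈ J, f i = f a * (f b * ∏ i ∈ (J.erase a).erase b, f i) := by
    intro f
    rw [← Finset.mul_prod_erase J f ha, ← Finset.mul_prod_erase (J.erase a) f (Finset.mem_erase.2 ⟨hab.symm, hb⟩)]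
  have h2 : ∏ i ∈ (J.erase a).erase b, q i ≤
      (∏ i ∈ (J.erase a).erase b, (1 + q i)) * ∏ i ∈ (J.erase a).erase b, (q i - 1) := by
    rw [← Finset.prod_mul_distrib]
    refine Finset.prod_le_prod' fun i _ => ?_
    obtain ⟨r, hr⟩ := Nat.exists_eq_add_of_le (hq i)
    rw [hr]
    have : 2 + r - 1 = r + 1 := by omega
    rw [this]
    nlinarith only []
  rw [h1, h1, h1]
  obtain ⟨x, hx⟩ := Nat.exists_eq_add_of_le (hq a)
  obtain ⟨y, hy⟩ := Nat.exists_eq_add_of_le (hq b)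
  obtain ⟨z, hz⟩ := Nat.exists_eq_add_of_le (hq o)
  have e1 : q a - 1 = x + 1 := by omega
  have e2 : q b - 1 = y + 1 := by omega
  have e3 : q o - 1 = z + 1 := by omega
  rw [e1, e2, e3, hx, hy, hz]
  set P := ∏ i ∈ (J.erase a).erase b, q i
  set P1 := ∏ i ∈ (J.erase a).erase b, (1 + q i)
  set P2 := ∏ i ∈ (J.erase a).erase b, (q i - 1)
  have h3 := pair_le x y
  have h4 : 2 + z ≤ 2 * (z + 1) := by omega
  calc (2 + z) * ((2 + x) * ((2 + y) * P)) = (2 + z) * ((x + 2) * (y + 2)) * P := by ring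
    _ ≤ (2 * (z + 1)) * ((x + 2) * (y + 2)) * (P1 * P2) := Nat.mul_le_mul (Nat.mul_le_mul_right _ h4) h2
    _ = (z + 1) * (2 * ((x + 2) * (y + 2))) * (P1 * P2) := by ring
    _ ≤ (z + 1) * (((x + 3) * (x + 1)) * ((y + 3) * (y + 1))) * (P1 * P2) :=
        Nat.mul_le_mul_right _ (Nat.mul_le_mul_left _ h3)
    _ = (1 + (2 + x)) * ((1 + (2 + y)) * P1) * ((z + 1) * ((x + 1) * ((y + 1) * P2))) := by ring

theorem num_two (q : ι → ℕ) (hq : ∀ i, 2 ≤ q i) (O : Finset ι) (hO : O.card = 2) {a b : ι} (ha : a ∈ Oᶜ) (hb : b ∈ Oᶜ)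
    (hab : a ≠ b) :
    ∏ i, q i ≤ ((1 + q a) * (1 + q b + q a * q b) * ∏ i ∈ Oᶜ \ {a, b}, (1 + q i)) * ∏ i, (q i - 1) := by
  obtain ⟨o, o', hoo, rfl⟩ := Finset.card_eq_two.1 hO
  set J := ({o, o'} : Finset ι)ᶜ with hJ
  rw [← Finset.prod_mul_prod_compl {o, o'} q, ← Finset.prod_mul_prod_compl {o, o'} (fun i => q i - 1), Finset.prod_pair hoo,
    Finset.prod_pair hoo, ← hJ]
  have h1 : ∀ f : ι → ℕ, ∏ i ∈ J, f i = f a * (f b * ∏ i ∈ J \ {a, b}, f i) := by
    intro f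
    have hsub : {a, b} ⊆ J := by
      intro i hi
      rcases Finset.mem_insert.1 hi with rfl | hi
      · exact ha
      · rw [Finset.mem_singleton.1 hi]; exact hb
    rw [← Finset.prod_sdiff hsub, Finset.prod_pair hab]
    ring
  have h2 : ∏ i ∈ J \ {a, b}, q i ≤
      (∏ i ∈ J \ {a, b}, (1 + q i)) * ∏ i ∈ J \ {a, b}, (q i - 1) := by
    rw [← Finset.prod_mul_distrib]
    refine Finset.prod_le_prod' fun i _ => ?_
    obtain ⟨r, hr⟩ := Nat.exists_eq_add_of_le (hq i)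
    rw [hr]
    have : 2 + r - 1 = r + 1 := by omega
    rw [this]
    nlinarith only []
  rw [h1, h1]
  obtain ⟨x, hx⟩ := Nat.exists_eq_add_of_le (hq a)
  obtain ⟨y, hy⟩ := Nat.exists_eq_add_of_le (hq b)
  obtain ⟨z, hz⟩ := Nat.exists_eq_add_of_le (hq o)
  obtain ⟨w, hw⟩ := Nat.exists_eq_add_of_le (hq o')
  have e1 : q a - 1 = x + 1 := by omega
  have e2 : q b - 1 = y + 1 := by omega
  have e3 : q o - 1 = z + 1 := by omega
  have e4 : q o' - 1 = w + 1 := by omega
  rw [e1, e2, e3, e4, hx, hy, hz, hw]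
  set P := ∏ i ∈ J \ {a, b}, q i
  set P1 := ∏ i ∈ J \ {a, b}, (1 + q i)
  set P2 := ∏ i ∈ J \ {a, b}, (q i - 1)
  have h3 := edge_le x y
  have h4 : 2 + z ≤ 2 * (z + 1) := by omega
  have h5 : 2 + w ≤ 2 * (w + 1) := by omega
  calc (2 + z) * (2 + w) * ((2 + x) * ((2 + y) * P)) = ((2 + z) * (2 + w)) * ((x + 2) * (y + 2)) * P := by ring
    _ ≤ ((2 * (z + 1)) * (2 * (w + 1))) * ((x + 2) * (y + 2)) * (P1 * P2) :=
        Nat.mul_le_mul (Nat.mul_le_mul_right _ (Nat.mul_le_mul h4 h5)) h2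
    _ = ((z + 1) * (w + 1)) * (4 * ((x + 2) * (y + 2))) * (P1 * P2) := by ring
    _ ≤ ((z + 1) * (w + 1)) * (((x + 3) * (x + 1)) * ((y + 1) * (1 + (y + 2) + (x + 2) * (y + 2)))) * (P1 * P2) :=
        Nat.mul_le_mul_right _ (Nat.mul_le_mul_left _ h3)
    _ = (1 + (2 + x)) * (1 + (2 + y) + (2 + x) * (2 + y)) * P1 * ((z + 1) * (w + 1) * ((x + 1) * ((y + 1) * P2))) := by ring

end num

/-! ### the index -/

section index

variable {l : ℕ} {W Y : Type*} [Group W] [Group Y] {M : CoxeterMatrix (Fin l)}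
  {cs : CoxeterSystem M W} {A : Fin l → Fin l → ℤ} {h : IsCartan M A} {p : ℕ} {T : Subgroup Y} {n : Fin l → Y}
  {X : (Fin l → ℤ) → Subgroup Y}

theorem two_le_card [Finite Y] (R : RGD cs h p T n X) (i : Fin l) : 2 ≤ Nat.card (X (sr i)) := by
  obtain ⟨u, hu, hu1⟩ := exists_ne_one R i
  have : Nontrivial (X (sr i)) := ⟨⟨⟨u, hu⟩, 1, fun h1 => hu1 (congrArg Subtype.val h1)⟩⟩
  exact Finite.one_lt_card

theorem index_le [Finite W] [Finite Y] [Fact p.Prime] (R : RGD cs h p T n X) (hG : GG cs h T X = ⊤) (hl : 3 ≤ l)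
    (O : Finset (Fin l)) (hO : O.card = 1 ∨ (O.card = 2 ∧ 4 ≤ l ∧ ∃ i j : Fin l, i ≠ j ∧ i ∉ O ∧ j ∉ O ∧ M i j ≠ 2)) :
    (PJ cs h T X ((Oᶜ : Finset (Fin l)) : Set (Fin l))).index ≤ Nat.card (RGD.Sup X (RGD.Pos cs h)) := by
  have h1 := H497.CD.index_B_mul_le R hG
  have h2 := Subgroup.relIndex_mul_index (B_le_PJ (cs := cs) (h := h) (T := T) (X := X) (J := ((Oᶜ : Finset (Fin l)) : Set (Fin l))))
  set q : Fin l → ℕ := fun i => Nat.card (X (sr i)) with hq
  have hq2 : ∀ i, 2 ≤ q i := two_le_card R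
  set r := (RGD.B cs h T X).relIndex (PJ cs h T X ((Oᶜ : Finset (Fin l)) : Set (Fin l))) with hr
  have hcc : Oᶜ.card = l - O.card := by rw [Finset.card_compl, Fintype.card_fin]
  have key : ∏ i, q i ≤ r * ∏ i, (q i - 1) := by
    rcases hO with h3 | ⟨h3, h4, i, j, hij, hi, hj, hM⟩
    · refine (num_one q hq2 O h3 (by omega)).trans (Nat.mul_le_mul_right _ (H497.CD.prod_le_relIndex R Oᶜ))
    · have hi' : i ∈ Oᶜ := Finset.mem_compl.2 hi
      have hj' : j ∈ Oᶜ := Finset.mem_compl.2 hj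
      exact (num_two q hq2 O h3 hi' hj' hij).trans (Nat.mul_le_mul_right _
        (H497.CD.prod_le_relIndex_edge R Oᶜ hi' hj' hij hM))
  set a := (PJ cs h T X ((Oᶜ : Finset (Fin l)) : Set (Fin l))).index with ha
  rw [← h2] at h1
  have hpos : 0 < ∏ i, q i := Finset.prod_pos fun i _ => by have := hq2 i; omega
  have h3 : a * ∏ i, q i ≤ Nat.card (RGD.Sup X (RGD.Pos cs h)) * ∏ i, q i := by
    calc a * ∏ i, q i ≤ a * (r * ∏ i, (q i - 1)) := Nat.mul_le_mul_left _ key
      _ = r * a * ∏ i, (q i - 1) := by ring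
      _ ≤ _ := h1
  exact Nat.le_of_mul_le_mul_right h3 hpos

end index

/-! ### two degrees -/

section degrees

variable {G : Type u} [Group G] [Finite G] {p : ℕ} [hp : Fact p.Prime]

theorem st_mem (N : Subgroup G) [hN : N.Normal] {θ : N → ℂ} (hθ : IsSt p θ) (P : Sylow p N) : Nat.card P ∈ charDegrees G := by
  obtain ⟨h1, h2, h3⟩ := hθ
  obtain ⟨h4, h5⟩ := h3 P
  have h6 := Ext.mem_charDegrees_of_sylow N P h1 h5
  have h7 : inertia N θ = ⊤ := by
    rw [eq_top_iff]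
    intro g _
    rw [mem_inertia_iff]
    intro x
    exact h2 (MulAut.conjNormal g : MulAut N) x
  rw [h7, Subgroup.index_top, one_mul, charDegree_of_eq h4] at h6
  exact h6

theorem exists_not_dvd (N : Subgroup G) [hN : N.Normal] (hc : Subgroup.centralizer (N : Set G) = ⊥) (hpN : p ∣ Nat.card N)
    [hs : IsSimpleGroup N] : ∃ m ∈ charDegrees G, m ≠ 1 ∧ ¬ p ∣ m := by
  by_contra hcon
  push Not at hcon
  obtain ⟨K, hK, hKp, k, hk⟩ := S4456.result (G := G) p hp.out fun χ hχ => hcon _ ⟨χ, rfl⟩ hχ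
  have h1 : N ⊓ K = ⊥ := by
    have h2 : ((N ⊓ K).subgroupOf N).Normal := inferInstance
    rcases h2.eq_bot_or_eq_top with h3 | h3
    · rw [Subgroup.subgroupOf_eq_bot, disjoint_iff] at h3
      rw [← h3]
      ext x
      simp only [Subgroup.mem_inf]
      (clear * -; itauto)
    · exfalso
      have h4 : N ≤ K := (Subgroup.subgroupOf_eq_top.1 h3).trans inf_le_right
      have h5 : p ∣ Nat.card K := hpN.trans (Subgroup.card_dvd_of_le h4)
      have h6 := Nat.dvd_gcd h5 (dvd_refl p)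
      rw [hKp] at h6
      exact hp.out.one_lt.ne' (Nat.dvd_one.1 h6)
  have h2 : K ≤ Subgroup.centralizer (N : Set G) := by
    intro x hx
    rw [Subgroup.mem_centralizer_iff]
    intro y hy
    have := Subgroup.commute_of_normal_of_disjoint N K hN hK (disjoint_iff.2 h1) y x hy hx
    exact this.eq
  rw [hc, le_bot_iff] at h2
  have h3 : Nat.card G = p ^ k := by
    rw [← hk, h2, Subgroup.index_bot]
  have h4 : IsPGroup p N := (IsPGroup.of_card h3).to_subgroup N
  have h5 : Nontrivial (Subgroup.center N) := h4.center_nontrivial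
  obtain ⟨⟨z, hz⟩, hz1⟩ := exists_ne (1 : Subgroup.center N)
  apply hz1
  have h6 : (z : G) ∈ Subgroup.centralizer (N : Set G) := by
    rw [Subgroup.mem_centralizer_iff]
    intro y hy
    exact congrArg Subtype.val (Subgroup.mem_center_iff.1 hz ⟨y, hy⟩)
  rw [hc, Subgroup.mem_bot] at h6
  exact Subtype.ext (Subtype.ext h6)

theorem finite_charDegrees : (charDegrees G).Finite := by
  have : Finite (IrrCharacter G) := finite_irr
  exact Set.finite_range _

theorem five_of {a b c d e : ℕ} (ha : a ∈ charDegrees G) (hb : b ∈ charDegrees G) (hc : c ∈ charDegrees G)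
    (hd : d ∈ charDegrees G) (he : e ∈ charDegrees G) (hab : a ≠ b) (hac : a ≠ c) (had : a ≠ d) (hae : a ≠ e)
    (hbc : b ≠ c) (hbd : b ≠ d) (hbe : b ≠ e) (hcd : c ≠ d) (hce : c ≠ e) (hde : d ≠ e) : 5 ≤ (charDegrees G).ncard := by
  have h1 : (({a, b, c, d, e} : Finset ℕ) : Set ℕ) ⊆ charDegrees G := by
    intro x hx
    simp only [Finset.coe_insert, Finset.coe_singleton, Set.mem_insert_iff, Set.mem_singleton_iff] at hx
    rcases hx with rfl | rfl | rfl | rfl | rfl <;> assumption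
  have h2 := Set.ncard_le_ncard h1 finite_charDegrees
  rw [Set.ncard_coe_finset] at h2
  have h3 : ({a, b, c, d, e} : Finset ℕ).card = 5 := by
    rw [Finset.card_insert_of_notMem (by simp; (clear * - a b c d e hab hac had hae; itauto)), Finset.card_insert_of_notMem (by simp; (clear * - b c d e hbc hbd hbe; tauto)),
      Finset.card_insert_of_notMem (by simp; (clear * - c d e hcd hce; tauto)), Finset.card_insert_of_notMem (by simp; (clear * - hde; tauto)), Finset.card_singleton]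
  omega

end degrees

/-! ### the main result -/

theorem ne_five {I : Type*} [Fintype I] [DecidableEq I] {M : CoxeterMatrix I} {A : I → I → ℤ} (h : IsCartan M A) (a b : I) :
    M a b ≠ 5 := by
  intro hab
  by_cases hne : a = b
  · rw [hne, M.diagonal] at hab; omega
  · rcases h.rel a b hne with h1 | h1 | h1 | h1 <;> omega

theorem five_rank_three {G : Type u} [Group G] [Finite G] {p : ℕ} [hp : Fact p.Prime] (N : Subgroup G) [N.Normal]
    (hc : Subgroup.centralizer (N : Set G) = ⊥) [IsSimpleGroup N] {l : ℕ} (hl : 3 ≤ l) {W : Type*} [Group W] [Finite W]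
    {M : CoxeterMatrix (Fin l)} {cs : CoxeterSystem M W} {A : Fin l → Fin l → ℤ} {h : IsCartan M A} {T : Subgroup N}
    {n : Fin l → N} {X : (Fin l → ℤ) → Subgroup N} (R : RGD cs h p T n X) (hG : GG cs h T X = ⊤) (hC : CommGen cs h X)
    (hconn : H396.Conn M) (θ : N → ℂ) (hθ : IsSt p θ) : 5 ≤ (charDegrees G).ncard := by
  classical
  let _ : Fintype G := Fintype.ofFinite G
  obtain ⟨O, hOσ, hO⟩ := exists_nodes hl M cs (ne_five h) hconn
  set! J : Set (Fin l) := ((Oᶜ : Finset (Fin l)) : Set (Fin l)) with hJdef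
  have hmem : ∀ i, i ∈ O ↔ i ∉ J := by
    intro i
    rw [hJdef, Finset.mem_coe, Finset.mem_compl, not_not]
  have hJ : Stable M J := by
    intro σ hσ
    have h1 : ∀ i, σ i ∈ O ↔ i ∈ O := by
      intro i
      constructor
      · intro h2
        have h3 : O.map σ.toEmbedding = O := by
          apply Finset.eq_of_subset_of_card_le
          · intro x hx
            obtain ⟨y, hy, rfl⟩ := Finset.mem_map.1 hx
            exact hOσ σ hσ y hy
          · rw [Finset.card_map]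
        rw [← h3] at h2
        obtain ⟨y, hy, e⟩ := Finset.mem_map.1 h2
        have : y = i := σ.injective e
        rwa [← this]
      · exact hOσ σ hσ i
    ext i
    constructor
    · rintro ⟨j, hj, rfl⟩
      by_contra h2
      rw [← hmem] at h2
      exact (hmem j).1 ((h1 j).1 h2) hj
    · intro hi
      refine ⟨σ.symm i, ?_, σ.apply_symm_apply i⟩
      by_contra h2
      rw [← hmem] at h2
      have h3 := (h1 _).2 h2
      rw [σ.apply_symm_apply] at h3
      exact (hmem i).1 h3 hi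
  obtain ⟨P, hP⟩ := exists_sylow R hG
  set! Q := Nat.card P with hQ
  have hQU : Nat.card (RGD.Sup X (RGD.Pos cs h)) = Q := by rw [hQ, ← hP]
  have hidx : (HJ cs h T X J).index ≤ Q := by
    rw [index_eq R hG hJ, ← hQU]
    exact index_le R hG hl O hO
  -- `p ∣ Q`
  have hl0 : 0 < l := by omega
  have hpQ : p ∣ Q := by
    obtain ⟨m, hm⟩ := IsPGroup.iff_card.1 P.isPGroup'
    have h1 : 2 ≤ Nat.card (X (sr (⟨0, hl0⟩ : Fin l))) := two_le_card R _
    have h2 : Nat.card (X (sr (⟨0, hl0⟩ : Fin l))) ≤ Q := by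
      rw [← hQU]
      exact Nat.le_of_dvd Nat.card_pos (Subgroup.card_dvd_of_le (H497.CD.X_le_U _))
    have h3 : m ≠ 0 := by
      rintro rfl
      rw [pow_zero] at hm
      have : Q = 1 := hm
      omega
    change p ∣ Nat.card P
    rw [show Nat.card P = p ^ m from hm]
    exact dvd_pow_self p h3
  have hQmem : Q ∈ charDegrees G := st_mem N hθ P
  obtain ⟨m, hm, hm1, hmp⟩ := exists_not_dvd (p := p) N hc (hpQ.trans (Subgroup.card_subgroup_dvd_card (P : Subgroup N)))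
  have h1mem : 1 ∈ charDegrees G := ⟨⟨_, isIrr_one⟩, charDegree_of_eq (by simp)⟩
  -- the constituents
  have hcon : ∀ χ : G → ℂ, IsIrrCharacter G χ → (χ ≠ fun _ => 1) →
      classInner (fun g : G => (Nat.card (fixedBy (G ⧸ HJ cs h T X J) g) : ℂ)) χ ≠ 0 →
      charDegree χ ∈ charDegrees G ∧ p ∣ charDegree χ ∧ charDegree χ < Q := by
    intro χ h1 h2 h3
    let _ : Fintype (G ⧸ HJ cs h T X J) := Fintype.ofFinite _
    refine ⟨⟨⟨χ, h1⟩, rfl⟩, dvd_constituent R hG hC hJ h1 h2 h3, lt_of_lt_of_le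
      (H69.OctChar.degree_lt (Ω := G ⧸ HJ cs h T X J) (QuotientGroup.mk 1) h1 h2 h3) hidx⟩
  by_contra hlt
  have hall : ∀ χ ξ : G → ℂ, IsIrrCharacter G χ → (χ ≠ fun _ => 1) →
      classInner (fun g : G => (Nat.card (fixedBy (G ⧸ HJ cs h T X J) g) : ℂ)) χ ≠ 0 → IsIrrCharacter G ξ → (ξ ≠ fun _ => 1) →
      classInner (fun g : G => (Nat.card (fixedBy (G ⧸ HJ cs h T X J) g) : ℂ)) ξ ≠ 0 → charDegree χ = charDegree ξ := by
    intro χ ξ h1 h2 h3 h4 h5 h6
    by_contra hne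
    obtain ⟨c1, c2, c3⟩ := hcon χ h1 h2 h3
    obtain ⟨d1, d2, d3⟩ := hcon ξ h4 h5 h6
    apply hlt
    have hp1 : ¬ p ∣ 1 := fun h7 => hp.out.one_lt.ne' (Nat.dvd_one.1 h7)
    refine five_of h1mem hQmem hm c1 d1 ?_ (Ne.symm hm1) ?_ ?_ ?_ (ne_of_gt c3) (ne_of_gt d3) ?_ ?_ hne
    · intro h7; exact hp1 (h7 ▸ hpQ)
    · intro h7; exact hp1 (h7 ▸ c2)
    · intro h7; exact hp1 (h7 ▸ d2)
    · intro h7; exact hmp (h7 ▸ hpQ)
    · intro h7; exact hmp (h7 ▸ c2)
    · intro h7; exact hmp (h7 ▸ d2)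
  have hOcard : O.card = 1 ∨ O.card = 2 := by
    rcases hO with h1 | ⟨h1, -⟩
    · exact Or.inl h1
    · exact Or.inr h1
  have hJne : J.Nonempty := by
    have h1 : 0 < Oᶜ.card := by
      rw [Finset.card_compl, Fintype.card_fin]; omega
    obtain ⟨i, hi⟩ := Finset.card_pos.1 h1
    exact ⟨i, hi⟩
  by_cases hex : ∃ χ : G → ℂ, IsIrrCharacter G χ ∧ (χ ≠ fun _ => 1) ∧
      classInner (fun g : G => (Nat.card (fixedBy (G ⧸ HJ cs h T X J) g) : ℂ)) χ ≠ 0
  · obtain ⟨ξ, h1, h2, h3⟩ := hex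
    exact false_of_eq R hG hconn hJ hJne O hmem hOcard (charDegree ξ) fun χ h4 h5 h6 => hall χ ξ h4 h5 h6 h1 h2 h3
  · push Not at hex
    exact false_of_eq R hG hconn hJ hJne O hmem hOcard 0 fun χ h4 h5 h6 => absurd (hex χ h4 h5) h6

end Cfsg.Agent.H638.FD.RankThree
end

-- part: H638/FD/LieGen
section
/-!
# Almost simple groups with a socle of Lie type of rank at least two (helper638, S4898)
-/

set_option autoImplicit false

namespace Cfsg.Agent.H638.FD.LieGen

open Cfsg CoxeterSystem Cfsg.Agent.ChevalleyStructure.CoxeterGeom Cfsg.Agent.Tits.Roots Cfsg.Agent.Tits.Core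
  Cfsg.Agent.Tits.Exchange Cfsg.Agent.Nodes.Reps Cfsg.Agent.Nodes.BNOf Cfsg.Agent.Nodes.StabComb
  Cfsg.Agent.Nodes.Bruhat Cfsg.Agent.Nodes.LeviDec Cfsg.Agent.Omega.EH3.Kf.Lev

universe u

/-- the Steinberg character -/
theorem exists_st {p : ℕ} (hp : p.Prime) {S : Type u} [Group S] [Finite S] [IsSimpleGroup S] (h : IsLieTypeChar p S) :
    ∃ θ : S → ℂ, IsSt p θ :=
  have : Fact p.Prime := ⟨hp⟩
  H732.StInv.exists_isSt (H979.LieSplit.hasSplit_of_isLieTypeChar hp h)

/-- rank at least two, not of type `A₂` -/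
theorem five_HasCG' {G : Type u} [Group G] [Finite G] {p : ℕ} [Fact p.Prime] (N : Subgroup G) [N.Normal]
    (hc : Subgroup.centralizer (N : Set G) = ⊥) [IsSimpleGroup N] (hN : HasCG' p N) (θ : N → ℂ) (hθ : IsSt p θ) :
    5 ≤ (charDegrees G).ncard := by
  obtain ⟨l, M, A, h, T, n, X, hl, hW, R, hX, hC, hconn, h2⟩ := hN
  have hG : GG M.toCoxeterSystem h T X = ⊤ := by
    rw [eq_top_iff, ← hX]
    exact le_sup_right
  rcases Nat.lt_or_ge 2 l with h3 | h3
  · exact RankThree.five_rank_three N hc h3 R hG hC hconn θ hθ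
  · obtain rfl : l = 2 := by omega
    obtain ⟨h4, h5⟩ := h2 rfl
    refine H845.FD.RankTwo.five_rank_two N hc R hG hC ?_ h5 θ hθ
    obtain ⟨a, ha, b, hb, hab⟩ := hconn {0} (Set.singleton_nonempty 0) (by
      intro h6
      have h7 : (1 : Fin 2) ∈ ({0} : Set (Fin 2)) := by rw [h6]; trivial
      exact absurd h7 (by simp))
    obtain rfl : a = 0 := ha
    obtain rfl : b = 1 := by
      have h6 : b ≠ 0 := hb
      omega
    have h6 := h4 0 1
    rcases h.rel 0 1 (by decide) with h7 | h7 | h7 | h7 <;> omega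

end Cfsg.Agent.H638.FD.LieGen
end

private theorem dce_0a7de0080534 : _root_.True := by
  try have : _root_.True := by simp only [_root_.Cfsg.Agent.H638.FD.Par.HJ.eq_1]
  try have : _root_.True := by simp only [_root_.Cfsg.Agent.H638.FD.Par.tt.eq_1]
  exact _root_.True.intro
end
end
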